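import Cfsg.Agent.H418.SpK.ModB

/-!
# Traces of involutions and the end of the linear argument
-/

set_option autoImplicit false
set_option linter.unusedSectionVars false

namespace Cfsg.Agent.H418.SpK

open Matrix

section

variable {V : Type*} [AddCommGroup V] [Module (ZMod 3) V] [Finite V]

/-- the difference of the dimensions of the eigenspaces -/
noncomputable def dl (y : Module.End (ZMod 3) V) (X : Submodule (ZMod 3) V) : ℤ :=
  (Module.finrank (ZMod 3) (X ⊓ LinearMap.ker (y - 1) : Submodule (ZMod 3) V) : ℤ) -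
    Module.finrank (ZMod 3) (X ⊓ LinearMap.ker (y + 1) : Submodule (ZMod 3) V)

theorem mem_ker_sub (y : Module.End (ZMod 3) V) (x : V) :
    x ∈ LinearMap.ker (y - 1) ↔ y x = x := by
  rw [LinearMap.mem_ker, LinearMap.sub_apply, Module.End.one_apply, sub_eq_zero]

theorem mem_ker_add (y : Module.End (ZMod 3) V) (x : V) :
    x ∈ LinearMap.ker (y + 1) ↔ y x = -x := by
  rw [LinearMap.mem_ker, LinearMap.add_apply, Module.End.one_apply, eq_neg_iff_add_eq_zero]

theorem finrank_le_of_inj (g : Module.End (ZMod 3) V) (A B : Submodule (ZMod 3) V)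
    (h : ∀ x ∈ A, g x ∈ B) (hi : ∀ x ∈ A, g x = 0 → x = 0) :
    Module.finrank (ZMod 3) A ≤ Module.finrank (ZMod 3) B := by
  let f : A →ₗ[ZMod 3] B := (g.domRestrict A).codRestrict B (fun x => h x.1 x.2)
  have hf : Function.Injective f := by
    rw [injective_iff_map_eq_zero]
    intro x hx
    apply Subtype.ext
    exact hi x.1 x.2 (congrArg Subtype.val hx)
  exact LinearMap.finrank_le_finrank_of_injective hf

theorem dl_anti (y g : Module.End (ZMod 3) V) (X : Submodule (ZMod 3) V)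
    (hg : ∀ x ∈ X, g x ∈ X) (hi : ∀ x ∈ X, g x = 0 → x = 0)
    (hyg : ∀ x ∈ X, y (g x) = - g (y x)) : dl y X = 0 := by
  have h1 := finrank_le_of_inj g (X ⊓ LinearMap.ker (y - 1)) (X ⊓ LinearMap.ker (y + 1))
    (by
      rintro x ⟨hx, hx'⟩
      refine ⟨hg x hx, ?_⟩
      rw [SetLike.mem_coe, mem_ker_sub] at hx'
      rw [SetLike.mem_coe, mem_ker_add, hyg x hx, hx'])
    (fun x hx => hi x hx.1)
  have h2 := finrank_le_of_inj g (X ⊓ LinearMap.ker (y + 1)) (X ⊓ LinearMap.ker (y - 1))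
    (by
      rintro x ⟨hx, hx'⟩
      refine ⟨hg x hx, ?_⟩
      rw [SetLike.mem_coe, mem_ker_add] at hx'
      rw [SetLike.mem_coe, mem_ker_sub, hyg x hx, hx', map_neg, neg_neg])
    (fun x hx => hi x hx.1)
  rw [dl]
  omega

theorem finrank_split (f : Module.End (ZMod 3) V) (X X1 X2 : Submodule (ZMod 3) V)
    (h1 : X1 ≤ X) (h2 : X2 ≤ X) (hd : ∀ x ∈ X1, x ∈ X2 → x = 0)
    (hs : ∀ x ∈ X, ∃ a ∈ X1, ∃ b ∈ X2, x = a + b)
    (hf1 : ∀ x ∈ X1, f x ∈ X1) (hf2 : ∀ x ∈ X2, f x ∈ X2) :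
    Module.finrank (ZMod 3) (X ⊓ LinearMap.ker f : Submodule (ZMod 3) V) =
      Module.finrank (ZMod 3) (X1 ⊓ LinearMap.ker f : Submodule (ZMod 3) V) +
        Module.finrank (ZMod 3) (X2 ⊓ LinearMap.ker f : Submodule (ZMod 3) V) := by
  have e1 : X ⊓ LinearMap.ker f = (X1 ⊓ LinearMap.ker f) ⊔ (X2 ⊓ LinearMap.ker f) := by
    apply le_antisymm
    · rintro x ⟨hx, hx'⟩
      obtain ⟨a, ha, b, hb, rfl⟩ := hs x hx
      rw [SetLike.mem_coe, LinearMap.mem_ker, map_add] at hx'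
      have hfa : f a = 0 := by
        apply hd _ (hf1 a ha)
        rw [eq_neg_of_add_eq_zero_left hx']
        exact X2.neg_mem (hf2 b hb)
      have hfb : f b = 0 := by
        rw [hfa, zero_add] at hx'
        exact hx'
      exact Submodule.add_mem_sup ⟨ha, hfa⟩ ⟨hb, hfb⟩
    · refine sup_le ?_ ?_
      · exact inf_le_inf_right _ h1
      · exact inf_le_inf_right _ h2
  have e2 : (X1 ⊓ LinearMap.ker f) ⊓ (X2 ⊓ LinearMap.ker f) = ⊥ := by
    rw [eq_bot_iff]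
    rintro x ⟨⟨hx, _⟩, ⟨hx', _⟩⟩
    rw [Submodule.mem_bot]
    exact hd x hx hx'
  have h3 := Submodule.finrank_sup_add_finrank_inf_eq (X1 ⊓ LinearMap.ker f) (X2 ⊓ LinearMap.ker f)
  rw [← e1, e2, finrank_bot, add_zero] at h3
  exact h3

theorem dl_split (y : Module.End (ZMod 3) V) (X X1 X2 : Submodule (ZMod 3) V)
    (h1 : X1 ≤ X) (h2 : X2 ≤ X) (hd : ∀ x ∈ X1, x ∈ X2 → x = 0)
    (hs : ∀ x ∈ X, ∃ a ∈ X1, ∃ b ∈ X2, x = a + b)
    (hf1 : ∀ x ∈ X1, y x ∈ X1) (hf2 : ∀ x ∈ X2, y x ∈ X2) :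
    dl y X = dl y X1 + dl y X2 := by
  have h3 := finrank_split (y - 1) X X1 X2 h1 h2 hd hs (fun x hx => X1.sub_mem (hf1 x hx) hx)
    (fun x hx => X2.sub_mem (hf2 x hx) hx)
  have h4 := finrank_split (y + 1) X X1 X2 h1 h2 hd hs (fun x hx => X1.add_mem (hf1 x hx) hx)
    (fun x hx => X2.add_mem (hf2 x hx) hx)
  rw [dl, dl, dl]
  omega

theorem dl_congr (y y' : Module.End (ZMod 3) V) (X : Submodule (ZMod 3) V)
    (h : ∀ x ∈ X, y x = y' x) : dl y X = dl y' X := by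
  have e1 : X ⊓ LinearMap.ker (y - 1) = X ⊓ LinearMap.ker (y' - 1) := by
    ext x
    simp only [Submodule.mem_inf, mem_ker_sub]
    constructor
    · rintro ⟨hx, h'⟩
      exact ⟨hx, by rw [← h x hx, h']⟩
    · rintro ⟨hx, h'⟩
      exact ⟨hx, by rw [h x hx, h']⟩
  have e2 : X ⊓ LinearMap.ker (y + 1) = X ⊓ LinearMap.ker (y' + 1) := by
    ext x
    simp only [Submodule.mem_inf, mem_ker_add]
    constructor
    · rintro ⟨hx, h'⟩
      exact ⟨hx, by rw [← h x hx, h']⟩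
    · rintro ⟨hx, h'⟩
      exact ⟨hx, by rw [h x hx, h']⟩
  rw [dl, dl, e1, e2]

theorem dl_one (y : Module.End (ZMod 3) V) (X : Submodule (ZMod 3) V) (h : ∀ x ∈ X, y x = x) :
    dl y X = Module.finrank (ZMod 3) X := by
  have e1 : X ⊓ LinearMap.ker (y - 1) = X := by
    rw [inf_eq_left]
    intro x hx
    rw [mem_ker_sub]
    exact h x hx
  have e2 : X ⊓ LinearMap.ker (y + 1) = ⊥ := by
    rw [eq_bot_iff]
    rintro x ⟨hx, hx'⟩
    rw [SetLike.mem_coe, mem_ker_add, h x hx] at hx'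
    rw [Submodule.mem_bot]
    exact eq_neg_self hx'
  rw [dl, e1, e2, finrank_bot]
  simp

theorem eq_of_dl (y : Module.End (ZMod 3) V) (X : Submodule (ZMod 3) V)
    (h : dl y X = Module.finrank (ZMod 3) X) : ∀ x ∈ X, y x = x := by
  have h1 : Module.finrank (ZMod 3) (X ⊓ LinearMap.ker (y - 1) : Submodule (ZMod 3) V) ≤
      Module.finrank (ZMod 3) X := Submodule.finrank_mono inf_le_left
  have h2 : Module.finrank (ZMod 3) X ≤
      Module.finrank (ZMod 3) (X ⊓ LinearMap.ker (y - 1) : Submodule (ZMod 3) V) := by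
    rw [dl] at h
    omega
  have h3 := Submodule.eq_of_le_of_finrank_le (inf_le_left : X ⊓ LinearMap.ker (y - 1) ≤ X) h2
  intro x hx
  rw [← h3] at hx
  exact (mem_ker_sub y x).1 hx.2

end

end Cfsg.Agent.H418.SpK
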