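import Cfsg.Agent.H418.SpK.Wr2

/-!
# The wreath lemma
-/

set_option autoImplicit false
set_option linter.unusedSectionVars false

namespace Cfsg.Agent.H418.SpK

open Matrix

section

variable (N : ℕ) [NeZero N]

/-- the shift -/
def shift : Equiv.Perm (ZMod N × Fin 2) := Equiv.prodCongr (Equiv.addRight 1) (Equiv.refl _)

theorem shift_inv (k : ZMod N) (c : Fin 2) : (shift N)⁻¹ (k, c) = (k - 1, c) := by
  rw [Equiv.Perm.inv_eq_iff_eq]
  change (k, c) = (k - 1 + 1, c)
  rw [sub_add_cancel]

theorem shift_pow (j : ℕ) (k : ZMod N) (c : Fin 2) : ((shift N) ^ j) (k, c) = (k + j, c) := by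
  induction j with
  | zero => simp
  | succ j ih =>
    rw [pow_succ', Equiv.Perm.mul_apply, ih]
    change (k + j + 1, c) = _
    push_cast
    rw [add_assoc]

/-- the shift as an element of `Sp` -/
def pT : Sp (ZMod N × Fin 2) := P _ (shift N)

theorem pT_apply (v : W (ZMod N × Fin 2)) (k : ZMod N) (c : Fin 2) :
    (pT N).1 v (k, c) = v (k - 1, c) := by
  rw [pT, P_apply, shift_inv]

theorem pT_pow : (pT N) ^ N = 1 := by
  rw [pT, ← map_pow]
  have : (shift N) ^ N = 1 := by
    ext p
    · obtain ⟨k, c⟩ := p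
      rw [shift_pow]
      simp
    · obtain ⟨k, c⟩ := p
      rw [shift_pow]
      simp
  rw [this, map_one]

theorem pT_Wr (f : ZMod N → Sp (Fin 2)) :
    pT N * Wr (ZMod N) (Fin 2) f = Wr (ZMod N) (Fin 2) (fun x => f (x - 1)) * pT N := by
  apply Sp.ext
  intro v p
  obtain ⟨k, c⟩ := p
  rw [Sp.mul_apply, Sp.mul_apply, pT_apply, Wr_apply, Wr_apply]
  have : (fun m => (pT N).1 v ((k, c).1, m)) = fun m => v (k - 1, m) := by
    funext m
    exact pT_apply N v k m
  rw [this]

/-- the element `g̃` of order `9 N` -/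
noncomputable def gT : Sp (ZMod N × Fin 2) := Wr (ZMod N) (Fin 2) (Pi.mulSingle 0 g4) * pT N

theorem gT_pow : (gT N) ^ (3 * N) = tHat N := by
  rw [mul_comm, pow_mul, gT, twist_pow_N (Wr (ZMod N) (Fin 2)) (pT N) (pT_Wr N) (pT_pow N), ← map_pow]
  rw [tHat]
  congr 1
  funext k
  rw [Pi.pow_apply, g4_cube]

theorem tHat_cube : (tHat N) ^ 3 = 1 := by
  rw [tHat, ← map_pow]
  have : (fun _ : ZMod N => S (0 : Fin 2) a0) ^ 3 = 1 := by
    funext k
    rw [Pi.pow_apply, ← map_pow]
    have : a0 ^ 3 = 1 := by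
      rw [pow_three, ← mul_assoc]
      exact a0_cube
    rw [this, map_one]
    rfl
  rw [this, map_one]

theorem gT_mem : gT N ∈ YY N := by
  rw [Subgroup.mem_centralizer_singleton_iff, ← gT_pow, ← pow_succ, ← pow_succ']

/-- `g̃` as an element of the centralizer -/
noncomputable def gY : YY N := ⟨gT N, gT_mem N⟩

theorem S_comm_tHat (k : ZMod N) (u : SL) : S (k, (1 : Fin 2)) u * tHat N = tHat N * S (k, 1) u := by
  apply Sp.ext
  intro v p
  obtain ⟨l, c⟩ := p
  rw [Sp.mul_apply, Sp.mul_apply]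
  fin_cases c
  · change (S (k, (1 : Fin 2)) u).1 ((tHat N).1 v) (l, 0) = (tHat N).1 ((S (k, 1) u).1 v) (l, 0)
    rw [S_apply' _ _ _ (by simp), tHat_zero, tHat_zero, S_apply' _ _ _ (by simp)]
  · change (S (k, (1 : Fin 2)) u).1 ((tHat N).1 v) (l, 1) = (tHat N).1 ((S (k, 1) u).1 v) (l, 1)
    rw [tHat_one]
    by_cases h : l = k
    · subst h
      rw [S_apply, S_apply, tHat_one]
    · have h' : (l, (1 : Fin 2)) ≠ (k, 1) := fun h' => h (by simpa using h')
      rw [S_apply' _ _ _ h', S_apply' _ _ _ h', tHat_one]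

/-- elements of order four -/
abbrev UU := {u : SL // u * u = -1}

/-- conjugation by `a0` -/
def cj (u : UU) : UU := ⟨a0 * u.1 * a1, by
  rw [← a0_inv]
  exact uu_conj u.2 a0⟩

/-- the family of elements -/
def qY (s : ZMod N × UU) : YY N := ⟨S (s.1, (1 : Fin 2)) s.2.1, by
  rw [Subgroup.mem_centralizer_singleton_iff]
  exact S_comm_tHat N _ _⟩

/-- the action on the index set -/
def thY (s : ZMod N × UU) : ZMod N × UU := (s.1 - 1, if s.1 = 0 then cj s.2 else s.2)

theorem thY_iter (j : ℕ) (hj : j ≤ N) (s : ZMod N × UU) :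
    (thY N)^[j] s = (s.1 - j, if s.1.val < j then cj s.2 else s.2) := by
  induction j with
  | zero => simp
  | succ j ih =>
    rw [Function.iterate_succ', Function.comp_apply, ih (by omega), thY]
    have hiff : s.1 - (j : ZMod N) = 0 ↔ s.1.val = j := by
      rw [sub_eq_zero]
      constructor
      · intro h
        rw [h, ZMod.val_natCast, Nat.mod_eq_of_lt (by omega)]
      · intro h
        rw [← h, ZMod.natCast_zmod_val]
    refine Prod.ext ?_ ?_
    · simp only
      push_cast
      rw [sub_sub]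
    · simp only [hiff]
      by_cases h1 : s.1.val = j
      · rw [if_pos h1, if_neg (by omega), if_pos (by omega)]
      · rw [if_neg h1]
        by_cases h2 : s.1.val < j
        · rw [if_pos h2, if_pos (by omega)]
        · rw [if_neg h2, if_neg (by omega)]

theorem thY_N (s : ZMod N × UU) : (thY N)^[N] s = (s.1, cj s.2) := by
  rw [thY_iter N N le_rfl, if_pos (ZMod.val_lt _)]
  simp

theorem cj_three (u : UU) : cj (cj (cj u)) = u := by
  apply Subtype.ext
  have e1 : a0 * a0 * a0 = 1 := a0_cube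
  have e2 : a1 * a1 * a1 = 1 := by sl_dec
  calc a0 * (a0 * (a0 * u.1 * a1) * a1) * a1 = (a0 * a0 * a0) * u.1 * (a1 * a1 * a1) := by
        simp only [mul_assoc]
    _ = u.1 := by rw [e1, e2, one_mul, mul_one]

theorem thY_three (s : ZMod N × UU) : (thY N)^[3 * N] s = s := by
  rw [mul_comm, Function.iterate_mul]
  change (thY N)^[N] ((thY N)^[N] ((thY N)^[N] s)) = s
  rw [thY_N, thY_N, thY_N, cj_three]

theorem gT_K (v : W (ZMod N × Fin 2)) (hv : InK v) (k : ZMod N) :
    (gT N).1 v (k, 1) = (if k = 0 then a1 else 1).1 *ᵥ v (k - 1, 1) := by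
  rw [gT, Sp.mul_apply, Wr_apply]
  change ((Pi.mulSingle (M := fun _ => Sp (Fin 2)) 0 g4) k).1 (fun m => (pT N).1 v (k, m)) 1 = _
  by_cases h : k = 0
  · rw [if_pos h]
    subst h
    rw [Pi.mulSingle_eq_same, g4_K]
    · rw [pT_apply]
    · rw [pT_apply]
      exact hv _
  · rw [Pi.mulSingle_eq_of_ne h, if_neg h]
    change (pT N).1 v (k, 1) = _
    rw [pT_apply]
    simp

theorem hgY (s : ZMod N × UU) : (gY N)⁻¹ * qY N s * gY N * (qY N (thY N s))⁻¹ ∈ RR N := by
  set r := (gY N)⁻¹ * qY N s * gY N * (qY N (thY N s))⁻¹ with hr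
  have key : ∀ v, InK v → InI (r.1.1 v - v) := by
    intro v hv
    set w := (qY N (thY N s))⁻¹.1.1 v with hw
    have hwK : InK w := YY.inK _ hv
    have e1 : (gY N).1.1 (r.1.1 v) = (qY N s).1.1 ((gY N).1.1 w) := by
      have : gY N * r = qY N s * gY N * (qY N (thY N s))⁻¹ := by
        rw [hr]
        group
      exact congrArg (fun y : YY N => y.1.1 v) this
    have e2 : (gY N).1.1 v = (gY N).1.1 ((qY N (thY N s)).1.1 w) := by
      congr 1
      exact (Sp.inv_apply (qY N (thY N s)).1 v).symm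
    have h1 : InI ((gY N).1.1 (r.1.1 v) - (gY N).1.1 v) := by
      intro k
      refine ⟨?_, ?_⟩
      · rw [e1, e2, Pi.sub_apply, sub_eq_zero]
        change (S (s.1, (1 : Fin 2)) s.2.1).1 ((gT N).1 w) (k, 1) =
          (gT N).1 ((S ((thY N s).1, (1 : Fin 2)) (thY N s).2.1).1 w) (k, 1)
        have hwK' : InK ((S ((thY N s).1, (1 : Fin 2)) (thY N s).2.1).1 w) :=
          YY.inK (qY N (thY N s)) hwK
        rw [gT_K N _ hwK']
        by_cases hk : k = s.1
        · subst hk
          rw [S_apply, gT_K N _ hwK]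
          change _ = _ *ᵥ (S (s.1 - 1, (1 : Fin 2)) _).1 w (s.1 - 1, 1)
          rw [S_apply, thY]
          by_cases h0 : s.1 = 0
          · simp only [h0, if_true]
            rw [Matrix.mulVec_mulVec, Matrix.mulVec_mulVec]
            congr 1
            change (s.2.1 * a1).1 = (a1 * (a0 * s.2.1 * a1)).1
            congr 1
            have : a1 * a0 = 1 := by sl_dec
            rw [← mul_assoc, ← mul_assoc, this, one_mul]
          · simp only [h0, if_false]
            simp
        · have h3 : (k, (1 : Fin 2)) ≠ (s.1, 1) := fun h => hk (by simpa using h)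
          have h4 : (k - 1, (1 : Fin 2)) ≠ ((thY N s).1, 1) := by
            intro h
            apply hk
            have : k - 1 = s.1 - 1 := by simpa [thY] using h
            exact sub_left_injective this
          rw [S_apply' _ _ _ h3, S_apply' _ _ _ h4, gT_K N _ hwK]
      · exact InK.sub (YY.inK _ (YY.inK _ hv)) (YY.inK _ hv) k
    rw [← map_sub] at h1
    have h2 := YY.inI (gY N)⁻¹ h1
    have e3 : ∀ u, (gY N)⁻¹.1.1 ((gY N).1.1 u) = u := fun u => Sp.inv_apply' (gY N).1 u
    rw [e3] at h2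
    exact h2
  refine ⟨fun v hv => ?_, fun v hv k => ?_⟩
  · -- on the image
    have hS : ∀ (l : ZMod N) (u : SL) (w : W (ZMod N × Fin 2)), InI w →
        (S (l, (1 : Fin 2)) u).1 w = w := by
      intro l u w hw
      funext p
      by_cases h : p = (l, 1)
      · subst h
        rw [S_apply, (hw l).1, Matrix.mulVec_zero]
      · rw [S_apply' _ _ _ h]
    have h1 : (qY N (thY N s))⁻¹.1.1 v = v := by
      have h2 : (qY N (thY N s)).1.1 v = v := hS _ _ _ hv
      have h3 : (qY N (thY N s))⁻¹.1.1 ((qY N (thY N s)).1.1 v) = v :=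
        Sp.inv_apply' (qY N (thY N s)).1 v
      rw [h2] at h3
      exact h3
    change (gY N)⁻¹.1.1 ((qY N s).1.1 ((gY N).1.1 ((qY N (thY N s))⁻¹.1.1 v))) = v
    have h4 : (qY N s).1.1 ((gY N).1.1 v) = (gY N).1.1 v := hS _ _ _ (YY.inI _ hv)
    rw [h1, h4]
    exact Sp.inv_apply' (gY N).1 v
  · have := (key v hv k).1
    rw [Pi.sub_apply, sub_eq_zero] at this
    exact this

end

end Cfsg.Agent.H418.SpK
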