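import Cfsg.Agent.H418.SpK.Spec5

/-!
# Element orders of `PSp_{2n}(3)`: `{2, 3}`-elements of large order
-/

set_option autoImplicit false
set_option linter.unusedSectionVars false

namespace Cfsg.Agent.H418.SpK

open Matrix

section

variable {ι : Type*} [Fintype ι] [DecidableEq ι]

theorem sub_one_pow (u : Module.End (ZMod 3) (W ι)) (k : ℕ) :
    (u - 1) ^ 3 ^ k = u ^ 3 ^ k - 1 := by
  have : Fact (Nat.Prime 3) := ⟨Nat.prime_three⟩
  have h : (Polynomial.X - 1 : Polynomial (ZMod 3)) ^ 3 ^ k = Polynomial.X ^ 3 ^ k - 1 ^ 3 ^ k :=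
    sub_pow_char_pow _ _ _
  rw [one_pow] at h
  have := congrArg (Polynomial.aeval u) h
  simpa using this

theorem uni_dim {u : Sp ι} {b : ℕ} (h1 : u ^ 3 ^ (b + 3) = 1) (X : Submodule (ZMod 3) (W ι))
    (hX : ∀ x ∈ X, lin ι u x ∈ X) {x0 : W ι} (hx0 : x0 ∈ X) (h2 : lin ι (u ^ 3 ^ (b + 2)) x0 ≠ x0)
    (e : ℕ) (he : ∀ A B : Submodule (ZMod 3) (W ι), B < A → A ≤ X →
      (∃ i, A = X.map ((lin ι u - 1) ^ i)) → (B = ⊥ ∨ ∃ i, B = X.map ((lin ι u - 1) ^ i)) →
      Module.finrank (ZMod 3) B + e ≤ Module.finrank (ZMod 3) A) :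
    e * (3 ^ (b + 2) + 1) ≤ Module.finrank (ZMod 3) X := by
  have hst : ∀ x ∈ X, (lin ι u - 1) x ∈ X := by
    intro x hx
    rw [LinearMap.sub_apply, Module.End.one_apply]
    exact X.sub_mem (hX x hx) hx
  have hpst : ∀ i : ℕ, ∀ x ∈ X, ((lin ι u - 1) ^ i) x ∈ X := by
    intro i
    induction i with
    | zero => exact fun x hx => hx
    | succ i ih =>
      intro x hx
      rw [pow_succ, Module.End.mul_apply]
      exact ih _ (hst x hx)
  refine chain (lin ι u - 1) X hst (N := 3 ^ (b + 3)) ?_ hx0 (q := 3 ^ (b + 2)) ?_ e ?_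
  · intro x _
    rw [sub_one_pow, ← map_pow, h1, map_one, sub_self]
    rfl
  · rw [sub_one_pow, ← map_pow]
    intro h
    apply h2
    rw [LinearMap.sub_apply, Module.End.one_apply, sub_eq_zero] at h
    exact h
  · intro A B hBA hA hB
    refine he A B hBA ?_ hA hB
    obtain ⟨i, rfl⟩ := hA
    rintro _ ⟨x, hx, rfl⟩
    exact hpst i x hx

theorem uni_dim_one {u : Sp ι} {b : ℕ} (h1 : u ^ 3 ^ (b + 3) = 1) (X : Submodule (ZMod 3) (W ι))
    (hX : ∀ x ∈ X, lin ι u x ∈ X) {x0 : W ι} (hx0 : x0 ∈ X)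
    (h2 : lin ι (u ^ 3 ^ (b + 2)) x0 ≠ x0) :
    3 ^ (b + 2) + 1 ≤ Module.finrank (ZMod 3) X := by
  have := uni_dim h1 X hX hx0 h2 1 (by
    intro A B hBA _ _ _
    exact Submodule.finrank_lt_finrank_of_lt hBA)
  rwa [one_mul] at this

theorem no_uni {b : ℕ} (h : 2 * Fintype.card ι ≤ 3 ^ (b + 2)) (g : Sp ι) :
    ¬ PO g (3 ^ (b + 3)) := by
  intro hg
  have h1 : (g ^ 2) ^ 3 ^ (b + 3) = 1 := by
    rw [← pow_mul]
    exact hg.pow_two
  have h2 : (g ^ 2) ^ 3 ^ (b + 2) ≠ 1 := by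
    intro h'
    rw [← pow_mul] at h'
    have h3 := hg.dvd h'
    have h4 := Nat.le_of_dvd (by positivity) h3
    have : 3 ^ (b + 3) = 3 ^ (b + 2) * 3 := pow_succ _ _
    have hp : 0 < 3 ^ (b + 2) := by positivity
    omega
  have h3 : ∃ x0, lin ι ((g ^ 2) ^ 3 ^ (b + 2)) x0 ≠ x0 := by
    by_contra hcon
    push Not at hcon
    apply h2
    apply lin_injective
    rw [map_one]
    exact LinearMap.ext hcon
  obtain ⟨x0, hx0⟩ := h3
  have h4 := uni_dim_one h1 ⊤ (fun _ _ => Submodule.mem_top) (Submodule.mem_top) hx0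
  rw [finrank_top, finrank_W] at h4
  omega

theorem no_uni_two {b j : ℕ} (h1 : 2 * Fintype.card ι < 3 ^ (b + 2) + 1 + 2 ^ (j + 1))
    (h2 : 2 * Fintype.card ι < 2 * (3 ^ (b + 2) + 1)) (g : Sp ι) :
    ¬ PO g (3 ^ (b + 3) * (4 * 2 ^ j)) := by
  intro hg
  have e2c : 4 * 2 ^ j = 2 ^ (j + 2) := by
    rw [pow_add]
    ring
  rw [e2c] at hg
  set s := g ^ 3 ^ (b + 3) with hs
  set u := g ^ 2 ^ (j + 3) with hu
  have hpos3 : 0 < 3 ^ (b + 2) := by positivity
  have hpos2 : 0 < 2 ^ (j + 1) := by positivity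
  have e3 : 3 ^ (b + 3) = 3 ^ (b + 2) * 3 := pow_succ _ _
  have e4 : 2 ^ (j + 2) = 2 ^ (j + 1) * 2 := pow_succ _ _
  have e5 : 2 ^ (j + 3) = 2 ^ (j + 2) * 2 := pow_succ _ _
  have hs1 : s ^ 2 ^ (j + 2) = 1 ∨ s ^ 2 ^ (j + 2) = ng ι := by
    rw [hs, ← pow_mul]
    exact (hg _).2 dvd_rfl
  have hs2 : s ^ 2 ^ (j + 1) ≠ 1 := by
    intro h
    rw [hs, ← pow_mul] at h
    have h3 := Nat.le_of_dvd (by positivity) (hg.dvd h)
    rw [e4, ← mul_assoc] at h3
    have : 0 < 3 ^ (b + 3) * 2 ^ (j + 1) := by positivity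
    omega
  have hu1 : u ^ 3 ^ (b + 3) = 1 := by
    have := hg.pow_two
    rw [hu, ← pow_mul, e5]
    convert this using 2
    ring
  have hu2 : u ^ 3 ^ (b + 2) ≠ 1 := by
    intro h
    rw [hu, ← pow_mul, e5] at h
    have h3 := Nat.le_of_dvd (by positivity) (hg.dvd h)
    rw [e3] at h3
    have h5 : 0 < 3 ^ (b + 2) * 2 ^ (j + 2) := by positivity
    have h6 : 3 ^ (b + 2) * 3 * 2 ^ (j + 2) = 3 * (3 ^ (b + 2) * 2 ^ (j + 2)) := by ring
    have h7 : 2 ^ (j + 2) * 2 * 3 ^ (b + 2) = 2 * (3 ^ (b + 2) * 2 ^ (j + 2)) := by ring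
    rw [h6, h7] at h3
    omega
  have hus : u * s = s * u := by
    rw [hu, hs, ← pow_add, ← pow_add, add_comm]
  have hss : (lin ι (s * s)) ^ (2 ^ (j + 2)) = 1 := by
    rw [← map_pow, ← pow_two, ← pow_mul, mul_comm, pow_mul]
    rcases hs1 with h | h
    · rw [h, one_pow, map_one]
    · rw [h, ng_pow_two, map_one]
  have hr : ((2 ^ (j + 2) : ℕ) : ZMod 3) ≠ 0 := by
    rw [Nat.cast_pow]
    exact pow_ne_zero _ (by decide)
  have hmemker : ∀ z, z ∈ LinearMap.ker (lin ι (s * s) - 1) ↔ lin ι (s * s) z = z := by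
    intro z
    rw [LinearMap.mem_ker, LinearMap.sub_apply, Module.End.one_apply, sub_eq_zero]
  have hkr := Cfsg.Agent.H376.PrimeOrd.ker_inf_range hss hr
  have hW2s : ∀ t : Sp ι, t * (s * s) = (s * s) * t → ∀ x ∈ LinearMap.range (lin ι (s * s) - 1),
      lin ι t x ∈ LinearMap.range (lin ι (s * s) - 1) := by
    intro t ht x hx
    refine Cfsg.Agent.H376.PrimeOrd.range_mem ?_ x hx
    rw [← map_mul, ← map_mul, ht]
  have husc : u * (s * s) = (s * s) * u := by
    rw [← mul_assoc, hus, mul_assoc, hus, mul_assoc]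
  -- `u ^ q = 1` on the range
  have hclaim : ∀ x ∈ LinearMap.range (lin ι (s * s) - 1), lin ι (u ^ 3 ^ (b + 2)) x = x := by
    intro x hx
    by_contra hne
    have h3 := uni_dim hu1 (LinearMap.range (lin ι (s * s) - 1)) (hW2s u husc) hx hne 2 (by
      intro A B hBA hAX hA hB
      have hmap : ∀ i, ∀ x ∈ (LinearMap.range (lin ι (s * s) - 1)).map ((lin ι u - 1) ^ i),
          lin ι s x ∈ (LinearMap.range (lin ι (s * s) - 1)).map ((lin ι u - 1) ^ i) := by
        rintro i _ ⟨x, hx, rfl⟩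
        refine ⟨lin ι s x, hW2s s (by group) x hx, ?_⟩
        have hc1 : lin ι u * lin ι s = lin ι s * lin ι u := by rw [← map_mul, hus, map_mul]
        have hc2 : Commute (lin ι u - 1) (lin ι s) := by
          rw [commute_iff_eq, sub_mul, mul_sub, hc1, one_mul, mul_one]
        have hc3 := (hc2.pow_left i).eq
        exact congrArg (fun F : Module.End (ZMod 3) (W ι) => F x) hc3
      refine codim_two (lin ι s) A B hBA ?_ ?_ ?_ ?_
      · obtain ⟨i, rfl⟩ := hA
        exact hmap i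
      · rcases hB with rfl | ⟨i, rfl⟩
        · intro x hx
          rw [Submodule.mem_bot] at hx ⊢
          rw [hx, map_zero]
        · exact hmap i
      · intro x hx hxx
        have h5 : x ∈ LinearMap.ker (lin ι (s * s) - 1) ⊓ LinearMap.range (lin ι (s * s) - 1) := by
          refine ⟨?_, hAX hx⟩
          rw [SetLike.mem_coe, hmemker, map_mul]
          exact hxx
        rw [hkr, Submodule.mem_bot] at h5
        exact h5
      · intro x _ hx
        rw [lin_apply] at hx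
        exact (LinearEquiv.map_eq_zero_iff s.1).1 hx)
    have h4 : Module.finrank (ZMod 3) (LinearMap.range (lin ι (s * s) - 1)) ≤
        2 * Fintype.card ι := by
      rw [← finrank_W]
      exact Submodule.finrank_le _
    omega
  -- a vector of the kernel moved by `u ^ q`
  obtain ⟨x0, hx0, hx0'⟩ : ∃ x0 ∈ LinearMap.ker (lin ι (s * s) - 1),
      lin ι (u ^ 3 ^ (b + 2)) x0 ≠ x0 := by
    by_contra hcon
    push Not at hcon
    apply hu2
    apply lin_injective
    rw [map_one]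
    refine LinearMap.ext fun v => ?_
    obtain ⟨z', hz', w, rfl⟩ := add_ker_range hss hr v
    have hw : lin ι (s * s) w - w ∈ LinearMap.range (lin ι (s * s) - 1) := ⟨w, rfl⟩
    rw [map_add, hcon z' ((hmemker z').2 hz'), hclaim _ hw]
    rfl
  have hker : 3 ^ (b + 2) + 1 ≤ Module.finrank (ZMod 3) (LinearMap.ker (lin ι (s * s) - 1)) := by
    refine uni_dim_one hu1 _ ?_ hx0 hx0'
    intro x hx
    rw [hmemker] at hx ⊢
    rw [← Module.End.mul_apply, ← map_mul, ← husc, map_mul, Module.End.mul_apply, hx]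
  -- the sign
  have hs3 : s ^ 2 ^ (j + 2) = 1 := by
    rcases hs1 with h | h
    · exact h
    · exfalso
      have h5 : ∀ k : ℕ, lin ι ((s * s) ^ k) x0 = x0 := by
        intro k
        induction k with
        | zero =>
          rw [pow_zero, map_one]
          rfl
        | succ k ih => rw [pow_succ, map_mul, Module.End.mul_apply, (hmemker x0).1 hx0, ih]
      have h6 := h5 (2 ^ (j + 1))
      have h7 : (s * s) ^ 2 ^ (j + 1) = s ^ 2 ^ (j + 2) := by
        rw [← pow_two, ← pow_mul, e4, mul_comm]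
      rw [h7, h, lin_apply, ng_apply] at h6
      apply hx0'
      rw [eq_neg_self h6.symm, map_zero]
  have htp := two_part (s := s) (c := j + 2) (by omega) hs3 hs2
  have hle : LinearMap.range (lin ι (s ^ 2 ^ (j + 2 - 1)) - 1) ≤
      LinearMap.range (lin ι (s * s) - 1) := by
    have h8 : s ^ 2 ^ (j + 2 - 1) = (s * s) ^ 2 ^ j := by
      have h10 : 2 ^ (j + 2 - 1) = 2 * 2 ^ j := by
        rw [show j + 2 - 1 = j + 1 by omega]
        ring
      rw [h10, pow_mul s, pow_two]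
    rw [h8]
    rintro _ ⟨w, rfl⟩
    refine ⟨(∑ i ∈ Finset.range (2 ^ j), (lin ι (s * s)) ^ i) w, ?_⟩
    have h9 := mul_geom_sum (lin ι (s * s)) (2 ^ j)
    rw [map_pow]
    exact congrArg (fun F : Module.End (ZMod 3) (W ι) => F w) h9
  have hmono := Submodule.finrank_mono hle
  have hrn := LinearMap.finrank_range_add_finrank_ker (lin ι (s * s) - 1)
  rw [finrank_W] at hrn
  rw [show j + 2 - 1 = j + 1 by omega] at htp hmono
  omega

end

end Cfsg.Agent.H418.SpK
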