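import Cfsg.Agent.H418.SpK.TElt2
import Cfsg.Agent.H418.SpK.Lin2

/-!
# Elements of prime order inverted by the standard element of order four
-/

set_option autoImplicit false
set_option linter.unusedSectionVars false

namespace Cfsg.Agent.H418.SpK

open Matrix

theorem neg_i0_val : (-i0 : SL).1 = !![0, -1; 1, 0] := by
  ext i j
  fin_cases i <;> fin_cases j <;> rfl

theorem neg_one_ne : (-1 : ZMod 3) ≠ 1 := by decide

theorem exists_orth {ι : Type*} [Fintype ι] [DecidableEq ι] (L : Type*) [Field L] [Finite L]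
    [Algebra (ZMod 3) L] (h : Module.finrank (ZMod 3) L = Fintype.card ι) :
    ∃ (b : Module.Basis ι (ZMod 3) L) (ε : ι → ZMod 3),
      (∀ i j, Algebra.trace (ZMod 3) L (b i * b j) = if i = j then ε i else 0) ∧
      ∀ i, ε i ≠ 0 := by
  have : Module.Finite (ZMod 3) L := Module.Finite.of_finite
  have : Invertible (2 : ZMod 3) := ⟨2, by decide, by decide⟩
  obtain ⟨v, hv⟩ := LinearMap.BilinForm.exists_orthogonal_basis
    (B := Algebra.traceForm (ZMod 3) L)
    ⟨fun x y => by simp [Algebra.traceForm_apply, mul_comm]⟩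
  let e : Fin (Module.finrank (ZMod 3) L) ≃ ι := Fintype.equivOfCardEq (by rw [Fintype.card_fin, h])
  have hv' : ∀ i j, i ≠ j → Algebra.trace (ZMod 3) L (v i * v j) = 0 := by
    intro i j hij
    exact hv hij
  refine ⟨v.reindex e, fun i => Algebra.trace (ZMod 3) L (v (e.symm i) * v (e.symm i)), ?_, ?_⟩
  · intro i j
    rw [Module.Basis.reindex_apply, Module.Basis.reindex_apply]
    split_ifs with hij
    · rw [hij]
    · exact hv' _ _ (fun h' => hij (e.symm.injective h'))
  · intro i h0
    change Algebra.trace (ZMod 3) L (v (e.symm i) * v (e.symm i)) = 0 at h0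
    have hnd := traceForm_nondegenerate (ZMod 3) L
    have : v (e.symm i) = 0 := by
      apply hnd.1
      intro w
      rw [Algebra.traceForm_apply, ← v.sum_repr w, Finset.mul_sum, map_sum]
      refine Finset.sum_eq_zero fun j _ => ?_
      rw [mul_smul_comm, map_smul]
      by_cases hj : e.symm i = j
      · rw [← hj, h0, smul_zero]
      · rw [hv' _ _ hj, smul_zero]
    exact v.ne_zero _ this

/-- an element of order `r` inverted by `D(i0, ..., i0)` -/
theorem exists_inverted {ι : Type*} [Fintype ι] [DecidableEq ι] [Nonempty ι] {r : ℕ}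
    (hr : r.Prime) (hr2 : r ≠ 2) (hd : r ∣ 3 ^ Fintype.card ι + 1) :
    ∃ t : Sp ι, D ι (fun _ => i0) * t = t⁻¹ * D ι (fun _ => i0) ∧ t ^ r = 1 ∧ t ≠ 1 := by
  have : Fact (Nat.Prime 3) := ⟨Nat.prime_three⟩
  have hm : Fintype.card ι ≠ 0 := Fintype.card_ne_zero
  let L := GaloisField 3 (Fintype.card ι)
  have : Finite L := inferInstance
  have hcard : Nat.card L = 3 ^ Fintype.card ι := GaloisField.card 3 _ hm
  have hfr : Module.finrank (ZMod 3) L = Fintype.card ι := GaloisField.finrank 3 hm
  have h3 : (3 : L) = 0 := by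
    have := CharP.cast_eq_zero L 3
    exact_mod_cast this
  obtain ⟨b, ε, hb, hε0⟩ := exists_orth (ι := ι) L hfr
  have hε : ∀ i, ε i * ε i = 1 := fun i => sign_sq _ (hε0 i)
  obtain ⟨A, hAr, hA1, hAs⟩ := exists_inv_elt (L := L) h3 hm hcard hr hr2 hd
  let T := Th b ε hb hε
  let c : Sp ι := D ι (fun i => if ε i = 1 then 1 else j0)
  have hc : c * T jL * c⁻¹ = D ι (fun _ => i0) := by
    rw [mul_inv_eq_iff_eq_mul]
    have e1 : T jL = D ι (fun i => if ε i = 1 then i0 else -i0) := by
      apply Sp.ext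
      intro v i
      rw [Th_jL, D_apply]
      rcases sign_cases _ (hε0 i) with h | h
      · rw [h, if_pos rfl]
        funext k
        fin_cases k <;> simp [i0, Matrix.mulVec, dotProduct, Fin.sum_univ_two]
      · rw [h, if_neg neg_one_ne, neg_i0_val]
        funext k
        fin_cases k <;> simp [Matrix.mulVec, dotProduct, Fin.sum_univ_two]
    rw [e1, ← map_mul, ← map_mul]
    congr 1
    funext i
    rw [Pi.mul_apply, Pi.mul_apply]
    split_ifs
    · simp
    · sl_dec
  refine ⟨c * T A * c⁻¹, ?_, ?_, ?_⟩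
  · rw [← hc]
    have h1 : T jL * T A = (T A)⁻¹ * T jL := by
      rw [← map_mul, jL_mul hAs, map_mul, map_inv]
    calc c * T jL * c⁻¹ * (c * T A * c⁻¹) = c * (T jL * T A) * c⁻¹ := by group
      _ = c * ((T A)⁻¹ * T jL) * c⁻¹ := by rw [h1]
      _ = _ := by group
  · rw [conj_pow, ← map_pow, hAr, map_one]
    group
  · intro h
    apply hA1
    apply Th_injective b ε hb hε
    rw [map_one]
    have : T A = c⁻¹ * (c * T A * c⁻¹) * c := by group
    change T A = 1
    rw [this, h]
    group

/-- the complement of a point -/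
abbrev Off {ι : Type*} (l : ι) := {i : ι // i ≠ l}

/-- an element of order `r` inverted by `D(qOff l)` -/
theorem exists_inverted_off {ι : Type*} [Fintype ι] [DecidableEq ι] (l : ι) {r : ℕ}
    (hr : r.Prime) (hr2 : r ≠ 2) (hc : 2 ≤ Fintype.card ι) (hd : r ∣ 3 ^ (Fintype.card ι - 1) + 1) :
    ∃ t : Sp ι, D ι (qOff l) * t = t⁻¹ * D ι (qOff l) ∧ t ^ r = 1 ∧ t ≠ 1 ∧
      (∀ u, t * S l u = S l u * t) ∧ ∃ t' : Sp (Off l), t = E (Function.Embedding.subtype _) t' := by
  have hcard : Fintype.card (Off l) = Fintype.card ι - 1 := by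
    rw [Fintype.card_subtype_compl]
    simp
  have : Nonempty (Off l) := Fintype.card_pos_iff.1 (by rw [hcard]; omega)
  obtain ⟨t, h1, h2, h3⟩ := exists_inverted (ι := Off l) hr hr2 (by rw [hcard]; exact hd)
  let e : Off l ↪ ι := Function.Embedding.subtype _
  refine ⟨E e t, ?_, ?_, ?_, ?_, t, rfl⟩
  · have e1 : D ι (qOff l) = E e (D _ (fun _ => i0)) := by
      rw [E_D]
      congr 1
      funext i
      by_cases hi : i = l
      · rw [Function.extend_apply', qOff, if_pos hi]
        · rfl
        · rintro ⟨m, hm⟩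
          exact m.2 (hm.trans hi)
      · have := e.injective.extend_apply (fun _ => i0) (1 : ι → SL) ⟨i, hi⟩
        change Function.extend e (fun _ => i0) 1 i = _ at this
        rw [this, qOff, if_neg hi]
    rw [e1, ← map_mul, h1, map_mul, map_inv]
  · rw [← map_pow, h2, map_one]
  · intro h
    apply h3
    apply E_injective e
    rw [h, map_one]
  · intro u
    exact E_S_comm e t (fun m => m.2) u

end Cfsg.Agent.H418.SpK
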