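import Cfsg.Agent.H418.SpK.Wr4
import Cfsg.Agent.H418.SpK.Spec6
import Cfsg.Agent.H418.SpK.TElt3

/-!
# Choices of elements
-/

set_option autoImplicit false
set_option linter.unusedSectionVars false

namespace Cfsg.Agent.H418.SpK

open Matrix

/-! ### numbers -/

theorem exists_b {n : ℕ} (hn : 2 ≤ n) : ∃ b, 2 * 3 ^ b ≤ n ∧ n < 2 * 3 ^ (b + 1) := by
  refine ⟨Nat.log 3 (n / 2), ?_, ?_⟩
  · have h1 := Nat.pow_log_le_self 3 (x := n / 2) (by omega)
    omega
  · have h1 := Nat.lt_pow_succ_log_self (b := 3) (by norm_num) (n / 2)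
    rw [Nat.succ_eq_add_one] at h1
    omega

theorem exists_j {n b : ℕ} (hodd : Odd n) (h2 : n < 2 * 3 ^ (b + 1))
    (h3 : 3 ^ (b + 2) < 2 * n) :
    ∃ j, (2 ^ j = 1 ∨ 3 ≤ 2 ^ j) ∧ 2 * 3 ^ b + 2 ^ j ≤ n ∧ 2 * n < 3 ^ (b + 2) + 1 + 2 ^ (j + 1) := by
  obtain ⟨k, hk⟩ := hodd
  have e1 : 3 ^ (b + 1) = 3 * 3 ^ b := by rw [pow_succ, mul_comm]
  have e2 : 3 ^ (b + 2) = 9 * 3 ^ b := by rw [pow_add, mul_comm]; norm_num
  rcases Nat.eq_zero_or_pos b with hb | hb
  · subst hb
    refine ⟨0, Or.inl rfl, ?_, ?_⟩ <;> norm_num at * <;> omega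
  · have hT : 3 ≤ 3 ^ b := by
      calc 3 = 3 ^ 1 := by norm_num
        _ ≤ 3 ^ b := Nat.pow_le_pow_right (by norm_num) hb
    have hTodd : 3 ^ b % 2 = 1 := by
      rw [Nat.pow_mod]
      simp
    rw [e1] at h2
    rw [e2] at h3 ⊢
    generalize 3 ^ b = T at *
    rcases Nat.lt_or_ge (2 * n) (9 * T + 9) with h | h
    · refine ⟨2, Or.inr (by norm_num), ?_, ?_⟩
      · norm_num
        omega
      · norm_num
        omega
    · -- `2 m0 = 2 n - 9 T - 1`
      obtain ⟨m0, hm0⟩ : ∃ m0, 2 * n = 9 * T + 1 + 2 * m0 := ⟨(2 * n - 9 * T - 1) / 2, by omega⟩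
      have h4 := Nat.pow_log_le_self 2 (x := m0) (by omega)
      have h5 := Nat.lt_pow_succ_log_self (b := 2) (by norm_num) m0
      rw [Nat.succ_eq_add_one] at h5
      refine ⟨Nat.log 2 m0 + 1, Or.inr ?_, ?_, ?_⟩
      · omega
      · have : 2 ^ (Nat.log 2 m0 + 1) = 2 * 2 ^ Nat.log 2 m0 := by rw [pow_succ, mul_comm]
        omega
      · have : 2 ^ (Nat.log 2 m0 + 1 + 1) = 2 * 2 ^ (Nat.log 2 m0 + 1) := by rw [pow_succ, mul_comm]
        omega

/-! ### embeddings -/

theorem exists_perm_pair {ι : Type*} [DecidableEq ι] {a b k l : ι} (hab : a ≠ b) (hkl : k ≠ l) :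
    ∃ s : Equiv.Perm ι, s a = k ∧ s b = l := by
  refine ⟨Equiv.swap (Equiv.swap a k b) l * Equiv.swap a k, ?_, ?_⟩
  · rw [Equiv.Perm.mul_apply, Equiv.swap_apply_left, Equiv.swap_apply_of_ne_of_ne _ hkl]
    intro h
    apply hab
    have := congrArg (Equiv.swap a k) h
    rw [Equiv.swap_apply_right, Equiv.swap_apply_self] at this
    exact this
  · rw [Equiv.Perm.mul_apply, Equiv.swap_apply_left]

theorem exists_emb_pair {α ι : Type*} [Fintype α] [Fintype ι] [DecidableEq ι] {a b : α}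
    (hab : a ≠ b) {k l : ι} (hkl : k ≠ l) (hc : Fintype.card α ≤ Fintype.card ι) :
    ∃ e : α ↪ ι, e a = k ∧ e b = l := by
  obtain ⟨e0⟩ := Function.Embedding.nonempty_of_card_le hc
  obtain ⟨s, hs1, hs2⟩ := exists_perm_pair (e0.injective.ne hab) hkl
  exact ⟨e0.trans s.toEmbedding, hs1, hs2⟩

/-! ### projective orders -/

section

variable {ι : Type*} [Fintype ι] [DecidableEq ι]

/-- projective order of a product of commuting elements of coprime orders, the first of odd order, the second with a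
fixed vector -/
theorem PO_mul {a b : Sp ι} (hab : a * b = b * a) {A B : ℕ} (hA : orderOf a = A) (hB : orderOf b = B)
    (hodd : Odd A) (hcop : Nat.Coprime A B) {v : W ι} (hv : v ≠ 0) (hbv : b.1 v = v) :
    PO (a * b) (A * B) := by
  have hord : orderOf (a * b) = A * B := by
    rw [← hA, ← hB] at *
    exact Commute.orderOf_mul_eq_mul_orderOf_of_coprime hab hcop
  have hpow : ∀ k : ℕ, (b ^ k).1 v = v := by
    intro k
    induction k with
    | zero => rfl
    | succ k ih => rw [Sp.pow_succ_apply, ih, hbv]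
  intro k
  constructor
  · rintro (h | h)
    · rw [← hord]
      exact orderOf_dvd_of_pow_eq_one h
    · exfalso
      have hc : Commute a b := hab
      rw [hc.mul_pow] at h
      have h1 : (a ^ k).1 v = -v := by
        have h2 : (a ^ k * b ^ k).1 v = (ng ι).1 v := by rw [h]
        rw [Sp.mul_apply, hpow, ng_apply] at h2
        exact h2
      have h3 : ∀ m : ℕ, ((a ^ k) ^ m).1 v = (-1 : ZMod 3) ^ m • v := by
        intro m
        induction m with
        | zero =>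
          rw [pow_zero, pow_zero, one_smul]
          rfl
        | succ m ih =>
          rw [Sp.pow_succ_apply, ih, map_smul, h1, pow_succ, mul_smul, neg_smul, one_smul]
      have h4 := h3 A
      rw [← pow_mul, mul_comm, pow_mul, ← hA, pow_orderOf_eq_one, one_pow, hA, hodd.neg_one_pow,
        neg_smul, one_smul] at h4
      exact hv (eq_neg_self h4)
  · intro h
    left
    rw [← orderOf_dvd_iff_pow_eq_one, hord]
    exact h

theorem PO_odd {a : Sp ι} [Nonempty ι] {A : ℕ} (hA : orderOf a = A) (hodd : Odd A) : PO a A := by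
  obtain ⟨v, hv⟩ := exists_ne (0 : W ι)
  have := PO_mul (a := a) (b := 1) (by rw [mul_one, one_mul]) hA orderOf_one hodd
    (Nat.coprime_one_right A) hv rfl
  rwa [mul_one, mul_one] at this

end

/-! ### the order of `g̃` -/

theorem gT_order {N b : ℕ} [NeZero N] (hN : N = 3 ^ b) : orderOf (gT N) = 9 * N := by
  have : Fact (Nat.Prime 3) := ⟨Nat.prime_three⟩
  have e1 : 3 ^ (b + 1) = 3 * N := by rw [hN, pow_succ, mul_comm]
  have e2 : 3 ^ (b + 1 + 1) = 3 * N * 3 := by rw [pow_succ, e1]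
  have h1 : ¬ (gT N) ^ 3 ^ (b + 1) = 1 := by
    rw [e1, gT_pow]
    intro h
    have h2 := tHat_zero (N := N) (fun _ => ![0, 1]) 0
    rw [h] at h2
    have h3 := congrFun h2 0
    simp at h3
  have h2 : (gT N) ^ 3 ^ (b + 1 + 1) = 1 := by
    rw [e2, pow_mul, gT_pow, tHat_cube]
  have h3 := orderOf_eq_prime_pow h1 h2
  rw [h3, e2]
  ring

theorem sB_order (m : ℕ) [NeZero m] {j : ℕ} (hm : m = 2 ^ j) : orderOf (sB m) = 4 * m := by
  have : Fact (Nat.Prime 2) := ⟨Nat.prime_two⟩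
  have e0 : 2 ^ (j + 1) = m * 2 := by rw [pow_succ, hm]
  have e1 : 2 ^ (j + 1 + 1) = m * 2 * 2 := by rw [pow_succ, e0]
  have h0 : (fun _ : ZMod m => i0) ^ 2 = fun _ => -1 := by
    funext k
    rw [Pi.pow_apply, pow_two]
    exact i0_sq
  have h1 : ¬ (sB m) ^ 2 ^ (j + 1) = 1 := by
    rw [e0, pow_mul, sB_pow, ← map_pow, h0]
    intro h
    have h2 := ng_apply (ι := ZMod m) (fun _ => ![0, 1])
    rw [ng, h, Sp.one_apply] at h2
    have h3 := eq_neg_self h2
    have h4 := congrFun (congrFun h3 0) 1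
    simp at h4
  have h2 : (sB m) ^ 2 ^ (j + 1 + 1) = 1 := by
    rw [e1, pow_mul, pow_mul, sB_pow, ← map_pow, h0]
    exact ng_pow_two
  have h3 := orderOf_eq_prime_pow h1 h2
  rw [h3, e1]
  ring

end Cfsg.Agent.H418.SpK
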