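import Cfsg.Agent.H418.SpK.Main1

/-!
# Modules in characteristic three for `PSp_{2n}(3)`
-/

set_option autoImplicit false
set_option linter.unusedSectionVars false

namespace Cfsg.Agent.H418.SpK

open Matrix

section

variable {ι : Type*} [Fintype ι] [DecidableEq ι] {V : Type*} [AddCommGroup V] [Module (ZMod 3) V]
  [Finite V] (ρ : Sp ι →* Module.End (ZMod 3) V)

/-- the element orders of the extension of `V` by `PSp` are element orders of `PSp` -/
def Star : Prop := ∀ (g : Sp ι) (N : ℕ), PO g N →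
  (∃ v, ∑ k ∈ Finset.range N, ρ (g ^ k) v ≠ 0) → ∃ g' : Sp ι, PO g' (3 * N)

/-- elements with fixed vectors -/
theorem Star.of_fix {ρ : Sp ι →* Module.End (ZMod 3) V} (h : Star ρ) {g : Sp ι} {N : ℕ}
    (hg : PO g N) (hN : (N : ZMod 3) ≠ 0) {x : V} (hx0 : x ≠ 0) (hx : ρ g x = x) :
    ∃ g' : Sp ι, PO g' (3 * N) := by
  apply h g N hg
  refine ⟨x, ?_⟩
  have h1 : ∀ k : ℕ, ρ (g ^ k) x = x := by
    intro k
    induction k with
    | zero => rw [pow_zero, act_one]
    | succ k ih => rw [pow_succ, act_mul, hx, ih]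
  rw [Finset.sum_congr rfl (fun k _ => h1 k), Finset.sum_const, Finset.card_range]
  rw [← Nat.cast_smul_eq_nsmul (ZMod 3)]
  intro h2
  rcases smul_eq_zero.1 h2 with h3 | h3
  · exact hN h3
  · exact hx0 h3

theorem ne_three_of_order {r m : ℕ} (hr : r.Prime) (hm : m ≠ 0)
    (ho : orderOf (3 : ZMod r) = 2 * m) : r ≠ 3 := by
  rintro rfl
  exact not_three' hm (dvd_of_order hr hm ho)

theorem cast_ne_zero {r : ℕ} (hr : r.Prime) (h3 : r ≠ 3) : (r : ZMod 3) ≠ 0 := by
  intro h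
  rw [ZMod.natCast_eq_zero_iff] at h
  exact h3 ((Nat.prime_dvd_prime_iff_eq Nat.prime_three hr).1 h).symm

/-- elements of order `r_{2n}` -/
theorem Star.ht (h : Star ρ) (hn : 1 ≤ Fintype.card ι) {r : ℕ} (hr : r.Prime)
    (ho : orderOf (3 : ZMod r) = 2 * Fintype.card ι) :
    ∃ (t : Sp ι) (r : ℕ), D ι (fun _ => i0) * t = t⁻¹ * D ι (fun _ => i0) ∧ Odd r ∧
      t ^ r = 1 ∧ ∀ x, ρ t x = x → x = 0 := by
  have : Nonempty ι := Fintype.card_pos_iff.1 hn
  have hm : Fintype.card ι ≠ 0 := by omega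
  have hr2 := ne_two_of_order ho
  have hr3 := ne_three_of_order hr hm ho
  obtain ⟨t, h1, h2, h3⟩ := exists_inverted (ι := ι) hr hr2 (dvd_of_order hr hm ho)
  have hodd : Odd r := hr.odd_of_ne_two hr2
  refine ⟨t, r, h1, hodd, h2, ?_⟩
  intro x hx
  by_contra hx0
  have : Fact r.Prime := ⟨hr⟩
  have hord : orderOf t = r := orderOf_eq_prime h2 h3
  obtain ⟨g', hg'⟩ := h.of_fix (PO_odd hord hodd) (cast_ne_zero hr hr3) hx0 hx
  exact no_three_mul hr ho g' hg'

/-- elements of order `r_{2(n-1)}` -/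
theorem Star.ht' (h : Star ρ) (hn : 3 ≤ Fintype.card ι) (hodd : Odd (Fintype.card ι)) {r : ℕ}
    (hr : r.Prime) (ho : orderOf (3 : ZMod r) = 2 * (Fintype.card ι - 1)) (l : ι) :
    ∃ (t : Sp ι) (r : ℕ), D ι (qOff l) * t = t⁻¹ * D ι (qOff l) ∧ Odd r ∧
      t ^ r = 1 ∧ t * S l (-1) = S l (-1) * t ∧ ∀ x, ρ (S l (-1)) x = x → ρ t x = x → x = 0 := by
  have hm : Fintype.card ι - 1 ≠ 0 := by omega
  have hr2 := ne_two_of_order ho
  have hr3 := ne_three_of_order hr hm ho
  have hrodd : Odd r := hr.odd_of_ne_two hr2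
  obtain ⟨t, h1, h2, h3, h4, t', ht'⟩ := exists_inverted_off l hr hr2 (by omega)
    (dvd_of_order hr hm ho)
  refine ⟨t, r, h1, hrodd, h2, h4 _, ?_⟩
  intro x hx hx'
  by_contra hx0
  -- the common fixed space
  let X : Submodule (ZMod 3) V := LinearMap.ker (ρ (S l (-1)) - 1) ⊓ LinearMap.ker (ρ t - 1)
  have mX : ∀ y, y ∈ X ↔ ρ (S l (-1)) y = y ∧ ρ t y = y := by
    intro y
    rw [Submodule.mem_inf, mem_ker_sub, mem_ker_sub]
  have hXne : X ≠ ⊥ := by
    intro hbot
    have : x ∈ X := (mX x).2 ⟨hx, hx'⟩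
    rw [hbot, Submodule.mem_bot] at this
    exact hx0 this
  obtain ⟨y, hyX, hy0, hy⟩ := exists_i0_fixed (ρ.comp (S l)) X hXne
    (by
      intro u y hy
      rw [mX] at hy ⊢
      rw [MonoidHom.comp_apply]
      constructor
      · have : S l (-1) * S l u = S l u * S l (-1) := by
          rw [← map_mul, ← map_mul]
          congr 1
          simp
        rw [← act_mul, this, act_mul, hy.1]
      · rw [← act_mul, h4, act_mul, hy.2])
    (by
      intro y hy
      exact ((mX y).1 hy).1)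
  rw [MonoidHom.comp_apply] at hy
  rw [mX] at hyX
  have : Fact r.Prime := ⟨hr⟩
  have hord : orderOf t = r := orderOf_eq_prime h2 h3
  have hordS : orderOf (S l i0) = 4 := by
    have : Fact (Nat.Prime 2) := ⟨Nat.prime_two⟩
    have e1 : ¬ (S l i0) ^ 2 ^ 1 = 1 := by
      rw [pow_one, ← map_pow, pow_two, i0_sq]
      intro h5
      have h6 := S_apply l (-1) (fun _ => ![0, 1])
      rw [h5, Sp.one_apply] at h6
      have h7 := congrFun h6 1
      have h8 : ((-1 : SL).1 *ᵥ (![0, 1] : Fin 2 → ZMod 3)) 1 = -1 := by decide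
      rw [h8] at h7
      exact absurd h7 (by decide)
    have e2 : (S l i0) ^ 2 ^ (1 + 1) = 1 := by
      rw [pow_succ, pow_one, pow_mul, ← map_pow, pow_two i0, i0_sq, ← map_pow]
      have : (-1 : SL) ^ 2 = 1 := by simp
      rw [this, map_one]
    have := orderOf_eq_prime_pow e1 e2
    rw [this]
    norm_num
  -- a vector off `l`
  obtain ⟨k, hk⟩ : ∃ k, k ≠ l := by
    have : Nontrivial ι := Fintype.one_lt_card_iff_nontrivial.1 (by omega)
    exact exists_ne l
  have hv0 : (Pi.single k ![0, 1] : W ι) ≠ 0 := by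
    intro h5
    have := congrFun (congrFun h5 k) 1
    simp at this
  have hbv : (S l i0).1 (Pi.single k ![0, 1] : W ι) = Pi.single k ![0, 1] := by
    funext i
    by_cases hi : i = l
    · subst hi
      rw [S_apply, Pi.single_eq_of_ne (Ne.symm hk), Matrix.mulVec_zero]
    · rw [S_apply' _ _ _ hi]
  have hcop : Nat.Coprime r 4 := by
    rw [show (4 : ℕ) = 2 ^ 2 by norm_num]
    exact Nat.Coprime.pow_right 2 hrodd.coprime_two_right
  have hPO := PO_mul (h4 i0) hord hordS hrodd hcop hv0 hbv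
  obtain ⟨g', hg'⟩ := h.of_fix hPO (by
    rw [Nat.cast_mul]
    exact mul_ne_zero (cast_ne_zero hr hr3) (by decide)) hy0 (by
    rw [act_mul, hy, hyX.2])
  rw [show 3 * (r * 4) = 12 * r by ring] at hg'
  exact no_twelve_mul hn hodd hr ho g' hg'

/-- no eigenvectors with two non trivial coordinates, unipotent case -/
theorem Star.hC_uni (h : Star ρ) (hn : 2 ≤ Fintype.card ι) {b : ℕ}
    (hb1 : 2 * 3 ^ b ≤ Fintype.card ι) (hb2 : 2 * Fintype.card ι ≤ 3 ^ (b + 2)) (x : V)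
    (hx0 : x ≠ 0) (hx : ∀ c, Eig (ρ.comp (S c)) x) (k l : ι) (hkl : k ≠ l) (u u' : SL)
    (hu : u * u = -1) (hu' : u' * u' = -1) (h1 : ρ (S k u) x = -x) (h2 : ρ (S l u') x = -x) :
    False := by
  have hpos : 0 < 3 ^ b := by positivity
  have : NeZero (3 ^ b) := ⟨hpos.ne'⟩
  have : Nonempty ι := ⟨k⟩
  obtain ⟨e, he1, he2⟩ := exists_emb_pair (α := ZMod (3 ^ b) × Fin 2) (a := (0, 0)) (b := (0, 1))
    (by simp) hkl (by rw [Fintype.card_prod, ZMod.card, Fintype.card_fin]; omega)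
  obtain ⟨m, hm⟩ := wreath (N := 3 ^ b) rfl (ρ.comp (E e)) x hx0
    (by
      intro c w hw
      have := hx (e c) w hw
      rw [MonoidHom.comp_apply] at this
      rw [MonoidHom.comp_apply, MonoidHom.comp_apply, E_S]
      exact this)
    (k1 := 0) hu (by rw [MonoidHom.comp_apply, E_S, he1]; exact h1)
    (k2 := 0) hu' (by rw [MonoidHom.comp_apply, E_S, he2]; exact h2)
  have hord : orderOf (E e (gT (3 ^ b))) = 9 * 3 ^ b := by
    rw [orderOf_injective _ (E_injective e), gT_order rfl]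
  have e9 : 9 * 3 ^ b = 3 ^ (b + 2) := by rw [pow_add, mul_comm]; norm_num
  have hodd : Odd (9 * 3 ^ b) := by
    rw [e9]
    exact Odd.pow (by decide)
  obtain ⟨g', hg'⟩ := h (E e (gT (3 ^ b))) _ (PO_odd hord hodd) ⟨m, by
    simp only [MonoidHom.comp_apply, map_pow] at hm ⊢
    exact hm⟩
  have e27 : 3 * (9 * 3 ^ b) = 3 ^ (b + 3) := by rw [pow_add, mul_comm]; ring
  rw [e27] at hg'
  exact no_uni hb2 g' hg'

end

end Cfsg.Agent.H418.SpK
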