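import Cfsg.Agent.H418.SpK.Base

/-!
# Modules for the symplectic groups over the field with three elements: the signs
-/

set_option autoImplicit false
set_option linter.unusedSectionVars false

namespace Cfsg.Agent.H418.SpK

open Matrix

section Joint

variable {V : Type*} [AddCommGroup V] [Module (ZMod 3) V]

theorem three_smul_eq (v : V) : v + v + v = 0 := by
  have h : ((3 : ZMod 3)) • v = 0 := by
    rw [show (3 : ZMod 3) = 0 from rfl, zero_smul]
  rw [show (3 : ZMod 3) = 1 + 1 + 1 from rfl, add_smul, add_smul, one_smul] at h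
  exact h

theorem add_self (v : V) : v + v = -v := by
  have := three_smul_eq v
  rw [eq_neg_iff_add_eq_zero]
  exact this

theorem eq_neg_self {v : V} (h : v = -v) : v = 0 := by
  have h1 := three_smul_eq v
  have h2 : v + v = 0 := by
    nth_rewrite 1 [h]
    simp
  rw [h2, zero_add] at h1
  exact h1

/-- a joint eigenvector of commuting involutions -/
theorem exists_joint {I : Type*} [Finite I] (a : I → Module.End (ZMod 3) V)
    (X : Submodule (ZMod 3) V) (hX : X ≠ ⊥) (hst : ∀ i, ∀ x ∈ X, a i x ∈ X)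
    (hc : ∀ i j, ∀ x ∈ X, a i (a j x) = a j (a i x)) (h2 : ∀ i, ∀ x ∈ X, a i (a i x) = x) :
    ∃ x ∈ X, x ≠ 0 ∧ ∀ i, a i x = x ∨ a i x = -x := by
  classical
  have := Fintype.ofFinite I
  have key : ∀ s : Finset I, ∃ x ∈ X, x ≠ 0 ∧ ∀ i ∈ s, a i x = x ∨ a i x = -x := by
    intro s
    induction s using Finset.induction_on with
    | empty =>
      obtain ⟨x, hx, h0⟩ := Submodule.exists_mem_ne_zero_of_ne_bot hX
      exact ⟨x, hx, h0, by simp⟩
    | insert k s _ ih =>
      obtain ⟨x, hx, h0, hs⟩ := ih
      by_cases hy : x + a k x = 0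
      · refine ⟨x, hx, h0, ?_⟩
        intro i hi
        rcases Finset.mem_insert.1 hi with rfl | hi
        · right
          rw [eq_neg_iff_add_eq_zero, add_comm]
          exact hy
        · exact hs i hi
      · refine ⟨x + a k x, X.add_mem hx (hst k x hx), hy, ?_⟩
        intro i hi
        rcases Finset.mem_insert.1 hi with rfl | hi
        · left
          rw [map_add, h2 i x hx, add_comm]
        · rw [map_add, hc i k x hx]
          rcases hs i hi with h | h
          · left
            rw [h]
          · right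
            rw [h, map_neg, neg_add]
  obtain ⟨x, hx, h0, h⟩ := key Finset.univ
  exact ⟨x, hx, h0, fun i => h i (Finset.mem_univ i)⟩

end Joint

/-! ### elements of `SL_2(3)` -/

/-- `i` -/
def i0 : SL := ⟨!![0, 1; -1, 0], by decide⟩
/-- `j` -/
def j0 : SL := ⟨!![1, 1; 1, -1], by decide⟩
/-- `a` -/
def a0 : SL := ⟨!![1, 1; 0, 1], by decide⟩

theorem SL_ext {x y : SL} (h : ∀ i j, x.1 i j = y.1 i j) : x = y :=
  Subtype.ext (Matrix.ext h)

/-- finite checks in `SL_2(3)` -/
macro "sl_dec" : tactic => `(tactic| (apply SL_ext; intro i j; fin_cases i <;> fin_cases j <;> rfl))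

theorem i0_sq : i0 * i0 = -1 := by
  sl_dec

theorem j0_sq : j0 * j0 = -1 := by
  sl_dec

theorem i0_j0 : i0 * j0 = -1 * (j0 * i0) := by
  sl_dec

theorem a0_i0 : a0 * i0 = (-1 * j0) * a0 := by
  sl_dec

theorem a0_j0 : a0 * j0 = -1 * (i0 * j0) * a0 := by
  sl_dec

theorem a0_cube : a0 * a0 * a0 = 1 := by
  sl_dec

/-! ### coordinate subgroups -/

section

variable {ι : Type*} [Fintype ι] [DecidableEq ι]

/-- the `SL_2(3)` at the coordinate `i` -/
def S (i : ι) : SL →* Sp ι := (D ι).comp (MonoidHom.mulSingle (fun _ => SL) i)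

theorem S_eq (i : ι) (a : SL) : S i a = D ι (Pi.mulSingle i a) := rfl

theorem S_apply (i : ι) (a : SL) (v : W ι) : (S i a).1 v i = a.1 *ᵥ v i := by
  rw [S_eq, D_apply, Pi.mulSingle_eq_same]

theorem S_apply' (i : ι) (a : SL) (v : W ι) {k : ι} (hk : k ≠ i) : (S i a).1 v k = v k := by
  rw [S_eq, D_apply, Pi.mulSingle_eq_of_ne hk]
  simp

theorem S_comm {i k : ι} (h : i ≠ k) (a b : SL) : S i a * S k b = S k b * S i a := by
  rw [S_eq, S_eq, ← map_mul, ← map_mul]
  congr 1
  exact Pi.mulSingle_commute (f := fun _ => SL) h a b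

theorem D_S (q : ι → SL) (i : ι) (a : SL) : D ι q * S i a = S i (q i * a * (q i)⁻¹) * D ι q := by
  rw [S_eq, S_eq, ← map_mul, ← map_mul]
  congr 1
  funext k
  by_cases hk : k = i
  · subst hk
    simp
  · simp [Pi.mulSingle_eq_of_ne hk]

theorem P_S (s : Equiv.Perm ι) (i : ι) (a : SL) : P ι s * S i a = S (s i) a * P ι s := by
  rw [S_eq, P_D, S_eq]
  congr 2
  funext k
  by_cases hk : s⁻¹ k = i
  · have : k = s i := by rw [← hk]; simp
    subst this
    simp
  · rw [Pi.mulSingle_eq_of_ne hk, Pi.mulSingle_eq_of_ne]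
    rintro rfl
    apply hk
    simp

/-- `-1` at the coordinate `i` is central in the diagonal group -/
theorem S_neg_D (i : ι) (q : ι → SL) : D ι q * S i (-1) = S i (-1) * D ι q := by
  rw [D_S]
  congr 2
  simp

/-- the sign group acting on a weight vector -/
theorem sign_apply {V : Type*} [AddCommGroup V] [Module (ZMod 3) V]
    (ρ : Sp ι →* Module.End (ZMod 3) V) (J : Finset ι) (v : V)
    (hv : ∀ i, ρ (S i (-1)) v = if i ∈ J then -v else v) (s : Finset ι) :
    ρ (D ι (fun i => if i ∈ s then -1 else 1)) v = (-1 : ZMod 3) ^ (J ∩ s).card • v := by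
  induction s using Finset.induction_on with
  | empty =>
    have : (fun i : ι => if i ∈ (∅ : Finset ι) then (-1 : SL) else 1) = 1 := by
      funext i
      simp
    rw [this, map_one, map_one]
    simp
  | insert k s hk ih =>
    have : (fun i : ι => if i ∈ insert k s then (-1 : SL) else 1) =
        (fun i => if i ∈ s then -1 else 1) * Pi.mulSingle k (-1) := by
      funext i
      by_cases h : i = k
      · subst h
        simp [hk]
      · simp [h]
    rw [this, map_mul, map_mul, Module.End.mul_apply, ← S_eq, hv]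
    by_cases hJ : k ∈ J
    · rw [if_pos hJ, map_neg, ih, Finset.inter_insert_of_mem hJ,
        Finset.card_insert_of_notMem (by simp [hk]), pow_succ]
      simp
    · rw [if_neg hJ, ih, Finset.inter_insert_of_notMem hJ]

theorem card_even {V : Type*} [AddCommGroup V] [Module (ZMod 3) V]
    (ρ : Sp ι →* Module.End (ZMod 3) V) (J : Finset ι) (v : V) (h0 : v ≠ 0)
    (hv : ∀ i, ρ (S i (-1)) v = if i ∈ J then -v else v)
    (h1 : ρ (D ι (fun _ => -1)) v = v) : Even J.card := by
  have h := sign_apply ρ J v hv Finset.univ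
  simp only [Finset.mem_univ, if_true, Finset.inter_univ] at h
  rw [h1] at h
  by_contra hodd
  rw [Nat.not_even_iff_odd] at hodd
  rw [hodd.neg_one_pow, neg_one_smul] at h
  exact h0 (eq_neg_self h)

end

end Cfsg.Agent.H418.SpK
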