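import Cfsg.Agent.H418.SpK.Wr1
import Cfsg.Agent.H418.SpK.Wr2

/-!
# Fixed vectors of the element `(i0; 1, ..., 1) τ`
-/

set_option autoImplicit false
set_option linter.unusedSectionVars false

namespace Cfsg.Agent.H418.SpK

open Matrix

section

variable {M : Type*} [AddCommGroup M] [Module (ZMod 3) M]

/-- an `SL_2(3)`-module with `-1` trivial has vectors fixed by `i0` -/
theorem exists_i0_fixed (σ : SL →* Module.End (ZMod 3) M) (X : Submodule (ZMod 3) M) (hX : X ≠ ⊥)
    (hst : ∀ u, ∀ x ∈ X, σ u x ∈ X) (h1 : ∀ x ∈ X, σ (-1) x = x) :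
    ∃ x ∈ X, x ≠ 0 ∧ σ i0 x = x := by
  by_contra hcon
  push Not at hcon
  have hi : ∀ x ∈ X, σ i0 x = -x := by
    intro x hx
    by_contra hne
    apply hcon (x + σ i0 x) (X.add_mem hx (hst _ _ hx))
    · intro h
      apply hne
      rw [eq_neg_iff_add_eq_zero, add_comm]
      exact h
    · rw [map_add, ← act_mul, i0_sq, h1 x hx, add_comm]
  have hc : ∀ w : SL, (∀ x ∈ X, σ w x = -x) → ∀ x ∈ X, σ (a0 * w * a0⁻¹) x = -x := by
    intro w hw x hx
    rw [act_mul, act_mul, hw _ (hst _ _ hx), map_neg, act_inv]
  have hj : ∀ x ∈ X, σ j0 x = -x := by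
    intro x hx
    have e : j0 = -1 * (a0 * i0 * a0⁻¹) := by sl_dec
    rw [e, act_mul, hc i0 hi x hx, map_neg, h1 x hx]
  have hk : ∀ x ∈ X, σ (i0 * j0) x = -x := by
    intro x hx
    have e : i0 * j0 = -1 * (a0 * j0 * a0⁻¹) := by sl_dec
    rw [e, act_mul, hc j0 hj x hx, map_neg, h1 x hx]
  obtain ⟨x, hx, h0⟩ := Submodule.exists_mem_ne_zero_of_ne_bot hX
  have := hk x hx
  rw [act_mul, hj x hx, map_neg, hi x hx, neg_neg] at this
  exact h0 (eq_neg_self this)

variable {ι : Type*} [Fintype ι] [DecidableEq ι] (ρ : Sp ι →* Module.End (ZMod 3) M)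

theorem exists_wt_mem (X : Submodule (ZMod 3) M) (hX : X ≠ ⊥)
    (hst : ∀ i, ∀ x ∈ X, ρ (S i (-1)) x ∈ X) :
    ∃ (J : Finset ι) (v : M), v ∈ X ∧ v ≠ 0 ∧ IsWt ρ J v := by
  obtain ⟨v, hvX, h0, hv⟩ := exists_joint (fun i => ρ (S i (-1))) X hX hst
    (by
      intro i j x _
      by_cases h : i = j
      · subst h
        rfl
      · rw [← act_mul, ← act_mul, S_comm h])
    (by
      intro i x _
      rw [← act_mul, S_neg_sq, act_one])
  classical
  refine ⟨Finset.univ.filter (fun i => ρ (S i (-1)) v = -v), v, hvX, h0, ?_⟩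
  intro i
  simp only [Finset.mem_filter, Finset.mem_univ, true_and]
  split_ifs with h
  · exact h
  · exact (hv i).resolve_right h

/-- either a pair weight occurs or the sign group is trivial -/
theorem pair_or_trivial (h1 : ∀ v, ρ (D ι (fun _ => -1)) v = v) {i j : ι} (hij : i ≠ j) :
    (∃ w, w ≠ 0 ∧ IsWt ρ {i, j} w) ∨ ∀ k v, ρ (S k (-1)) v = v := by
  by_cases h : ∀ k v, ρ (S k (-1)) v = v
  · exact Or.inr h
  · left
    push Not at h
    obtain ⟨k, v, hkv⟩ := h
    let X : Submodule (ZMod 3) M := LinearMap.ker (ρ (S k (-1)) + 1)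
    have hX : ∀ x, x ∈ X ↔ ρ (S k (-1)) x = -x := by
      intro x
      rw [LinearMap.mem_ker, LinearMap.add_apply, Module.End.one_apply, eq_neg_iff_add_eq_zero]
    have hXne : X ≠ ⊥ := by
      intro hbot
      have : v - ρ (S k (-1)) v ∈ X := by
        rw [hX, map_sub, ← act_mul, S_neg_sq, act_one]
        abel
      rw [hbot, Submodule.mem_bot, sub_eq_zero] at this
      exact hkv this.symm
    obtain ⟨J, w, hwX, hw0, hw⟩ := exists_wt_mem ρ X hXne (by
      intro i x hx
      rw [hX] at hx ⊢
      rw [← act_mul]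
      by_cases hik : k = i
      · subst hik
        rw [act_mul, hx, map_neg, hx]
      · rw [S_comm hik, act_mul, hx, map_neg])
    have hJ : J ≠ ∅ := by
      intro hJ
      subst hJ
      have h3 := hw k
      rw [(hX w).1 hwX] at h3
      simp only [Finset.notMem_empty, if_false] at h3
      exact hw0 (eq_neg_self h3.symm)
    exact exists_pair ρ h1 hw0 hw hJ hij

theorem E_swap (i j : ι) (h : i ≠ j) :
    E (pairEmb i j h) (P (Fin 2) (Equiv.swap 0 1)) = P ι (Equiv.swap i j) := by
  apply Sp.ext
  intro v k
  by_cases hk : ∃ m, pairEmb i j h m = k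
  · obtain ⟨m, rfl⟩ := hk
    rw [E_apply, P_apply, P_apply]
    fin_cases m
    · change v (pairEmb i j h ((Equiv.swap (0 : Fin 2) 1)⁻¹ 0)) =
        v ((Equiv.swap i j)⁻¹ i)
      rw [Equiv.swap_inv, Equiv.swap_inv, Equiv.swap_apply_left, Equiv.swap_apply_left]
      rfl
    · change v (pairEmb i j h ((Equiv.swap (0 : Fin 2) 1)⁻¹ 1)) =
        v ((Equiv.swap i j)⁻¹ j)
      rw [Equiv.swap_inv, Equiv.swap_inv, Equiv.swap_apply_right, Equiv.swap_apply_right]
      rfl
  · have hk' : ∀ m, pairEmb i j h m ≠ k := fun m hm => hk ⟨m, hm⟩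
    have h0 : k ≠ i := fun h' => hk' 0 h'.symm
    have h1 : k ≠ j := fun h' => hk' 1 h'.symm
    rw [E_apply' _ _ _ hk', P_apply, Equiv.swap_inv, Equiv.swap_apply_of_ne_of_ne h0 h1]

theorem trivial_of_sign (h : ∀ k v, ρ (S k (-1)) v = v) {i j : ι} (hij : i ≠ j) :
    (∀ v, ρ (P ι (Equiv.swap i j)) v = v) ∧ ∀ v, ρ (S j i0) v = v := by
  have hz : ∀ x ∈ (⊤ : Submodule (ZMod 3) M),
      (ρ.comp (E (pairEmb i j hij))) (S 0 (-1)) x = (1 : ZMod 3) • x := by
    intro x _
    rw [MonoidHom.comp_apply, E_S, pairEmb_zero, h, one_smul]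
  constructor
  · intro v
    have := lemQ_swap (ρ.comp (E (pairEmb i j hij))) ⊤ (fun _ _ _ => Submodule.mem_top) hz v
      Submodule.mem_top
    rw [MonoidHom.comp_apply, E_swap, one_smul] at this
    exact this
  · intro v
    have := lemQ_comm (ρ.comp (E (pairEmb i j hij))) ⊤ (fun _ _ _ => Submodule.mem_top)
      (ε := 1) (by decide) hz a0 j0 v Submodule.mem_top
    have e : a0 * j0 * a0⁻¹ * j0⁻¹ = -1 * i0 := by sl_dec
    rw [MonoidHom.comp_apply, E_S, pairEmb_one, e, map_mul, act_mul, h] at this
    exact this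

theorem perm_trivial (h : ∀ k v, ρ (S k (-1)) v = v) (s : Equiv.Perm ι) (v : M) :
    ρ (P ι s) v = v := by
  induction s using Equiv.Perm.swap_induction_on generalizing v with
  | one => rw [map_one, act_one]
  | swap_mul f x y hxy ih =>
    rw [map_mul, act_mul, ih, (trivial_of_sign ρ h hxy).1]

end

/-! ### the twisted cycle -/

section

variable (m : ℕ) [NeZero m]

/-- the rotation -/
def rot : Equiv.Perm (ZMod m) := Equiv.addRight 1

theorem rot_inv (k : ZMod m) : (rot m)⁻¹ k = k - 1 := by
  rw [Equiv.Perm.inv_eq_iff_eq]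
  change k = k - 1 + 1
  rw [sub_add_cancel]

theorem rot_pow (j : ℕ) (k : ZMod m) : ((rot m) ^ j) k = k + j := by
  induction j with
  | zero => simp
  | succ j ih =>
    rw [pow_succ', Equiv.Perm.mul_apply, ih]
    change k + j + 1 = _
    push_cast
    rw [add_assoc]

/-- the element `(i0; 1, ..., 1) τ` -/
def sB : Sp (ZMod m) := S 0 i0 * P _ (rot m)

theorem sB_pow : (sB m) ^ m = D _ (fun _ => i0) := by
  rw [sB, S_eq]
  refine twist_pow_N (D (ZMod m)) (P _ (rot m)) ?_ ?_ i0
  · intro f
    rw [P_D]
    congr 2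
    funext i
    rw [rot_inv]
  · rw [← map_pow]
    have : (rot m) ^ m = 1 := by
      ext k
      rw [rot_pow]
      simp
    rw [this, map_one]

theorem S_sB (k : ZMod m) : S k (-1) * sB m = sB m * S (k - 1) (-1) := by
  have h1 : S k (-1) * S 0 i0 = S 0 i0 * S k (-1) := by
    by_cases h : k = 0
    · subst h
      rw [← map_mul, ← map_mul]
      congr 1
      simp
    · exact S_comm h _ _
  have h2 : P _ (rot m) * S (k - 1) (-1) = S k (-1) * P _ (rot m) := by
    rw [P_S]
    have : rot m (k - 1) = k := sub_add_cancel k 1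
    rw [this]
  rw [sB, ← mul_assoc, h1, mul_assoc, mul_assoc, ← h2]

theorem exists_fixed_B (hm : m = 1 ∨ 3 ≤ m) {M : Type*} [AddCommGroup M] [Module (ZMod 3) M]
    [Nontrivial M] (ρ : Sp (ZMod m) →* Module.End (ZMod 3) M)
    (h1 : ∀ v, ρ (D (ZMod m) (fun _ => -1)) v = v) : ∃ v, v ≠ 0 ∧ ρ (sB m) v = v := by
  rcases hm with rfl | hm
  · obtain ⟨x, -, hx0, hx⟩ := exists_i0_fixed (ρ.comp (S 0)) ⊤ top_ne_bot
      (fun _ _ _ => Submodule.mem_top) (by
        intro x _
        rw [MonoidHom.comp_apply]
        have : D (ZMod 1) (fun _ => -1) = S 0 (-1) := by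
          rw [S_eq]
          congr 1
          funext i
          rw [Subsingleton.elim (α := Fin 1) i 0]
          exact (Pi.mulSingle_eq_same (M := fun _ => SL) _ _).symm
        rw [← this]
        exact h1 x)
    refine ⟨x, hx0, ?_⟩
    have : rot 1 = 1 := by
      refine Equiv.ext fun k => ?_
      exact Subsingleton.elim (α := Fin 1) _ _
    rw [sB, this, map_one, mul_one]
    exact hx
  · have h01 : (0 : ZMod m) ≠ 1 := by
      have : Fact (1 < m) := ⟨by omega⟩
      exact zero_ne_one
    rcases pair_or_trivial ρ h1 h01 with ⟨v, h0, hv⟩ | htr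
    · -- the eigenvalue one of `y`
      set y : Sp (ZMod m) := D _ (fun _ => i0) with hy
      have hyy : ∀ v, ρ y (ρ y v) = v := by
        intro v
        rw [← act_mul, hy, ← map_mul]
        have : (fun _ : ZMod m => i0) * (fun _ => i0) = fun _ => -1 := by
          funext k
          exact i0_sq
        rw [this, h1]
      have hDwt : ∀ (q : ZMod m → SL) {J : Finset (ZMod m)} {w : M}, IsWt ρ J w →
          IsWt ρ J (ρ (D _ q) w) := by
        intro q J w hw k
        rw [← act_mul, ← S_neg_D, act_mul, hw k]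
        split_ifs
        · rw [map_neg]
        · rfl
      obtain ⟨v1, hv10, hv1, hyv1⟩ : ∃ v1, v1 ≠ 0 ∧ IsWt ρ {0, 1} v1 ∧ ρ y v1 = v1 := by
        by_cases hz : v + ρ y v = 0
        · have hyv : ρ y v = -v := by
            rw [eq_neg_iff_add_eq_zero, add_comm]
            exact hz
          refine ⟨ρ (S 0 j0) v, ?_, hDwt _ hv, ?_⟩
          · intro h
            apply h0
            have := act_inv' ρ (S 0 j0) v
            rw [h, map_zero] at this
            exact this.symm
          · rw [← act_mul, hy, D_S]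
            have : i0 * j0 * i0⁻¹ = -1 * j0 := by sl_dec
            simp only [this]
            rw [map_mul (S (0 : ZMod m)), mul_assoc, act_mul, act_mul, ← hy, hyv, map_neg, map_neg]
            have h5 := hDwt (Pi.mulSingle 0 j0) hv 0
            rw [if_pos (by simp)] at h5
            change ρ (S 0 (-1)) (ρ (S 0 j0) v) = -ρ (S 0 j0) v at h5
            rw [h5, neg_neg]
        · refine ⟨v + ρ y v, hz, ?_, ?_⟩
          · intro k
            have := hDwt (fun _ => i0) hv k
            rw [map_add, hv k, this]
            split_ifs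
            · rw [neg_add]
            · rfl
          · rw [map_add, hyy, add_comm]
      have hwt : ∀ i : ℕ, ∀ k, ρ (S k (-1)) (ρ ((sB m) ^ i) v1) =
          if k - i ∈ ({0, 1} : Finset (ZMod m)) then -(ρ ((sB m) ^ i) v1)
          else ρ ((sB m) ^ i) v1 := by
        intro i
        induction i with
        | zero =>
          intro k
          rw [pow_zero, act_one, hv1 k]
          simp
        | succ i ih =>
          intro k
          have e : ρ ((sB m) ^ (i + 1)) v1 = ρ (sB m) (ρ ((sB m) ^ i) v1) := by
            rw [pow_succ', act_mul]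
          rw [e, ← act_mul, S_sB, act_mul, ih]
          have : k - 1 - (i : ZMod m) = k - ((i + 1 : ℕ) : ZMod m) := by
            push_cast
            ring
          rw [this]
          split_ifs
          · rw [map_neg]
          · rfl
      refine ⟨∑ i ∈ Finset.range m, ρ ((sB m) ^ i) v1, ?_, ?_⟩
      · -- apply the projection
        let Φ : Module.End (ZMod 3) M := (1 - ρ (S 0 (-1))) * (1 - ρ (S 1 (-1)))
        have hΦ : ∀ w, Φ w = (w - ρ (S 1 (-1)) w) - ρ (S 0 (-1)) (w - ρ (S 1 (-1)) w) := fun w => rfl
        intro hsum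
        have h6 := congrArg Φ hsum
        rw [map_zero, map_sum, Finset.sum_eq_single 0] at h6
        · rw [pow_zero, act_one, hΦ, hv1 1, if_pos (by simp), sub_neg_eq_add, map_add, hv1 0,
            if_pos (by simp), add_self] at h6
          have h7 : -v1 - (-v1 + -v1) = v1 := by abel
          rw [h7] at h6
          exact hv10 h6
        · intro i hi hi0
          have him := Finset.mem_range.1 hi
          have hiz : (i : ZMod m) ≠ 0 := by
            intro h
            rw [ZMod.natCast_eq_zero_iff] at h
            exact absurd (Nat.le_of_dvd (Nat.pos_of_ne_zero hi0) h) (by omega)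
          rw [hΦ]
          by_cases hA : ((1 : ZMod m) - i) ∈ ({0, 1} : Finset (ZMod m))
          · -- then `1 = i` and `-i ∉ {0, 1}`
            have h8 : (1 : ZMod m) - i = 0 := by
              simp only [Finset.mem_insert, Finset.mem_singleton] at hA
              rcases hA with h | h
              · exact h
              · exfalso
                apply hiz
                have := congrArg (fun t => (1 : ZMod m) - t) h
                simpa using this
            have hB : ((0 : ZMod m) - i) ∉ ({0, 1} : Finset (ZMod m)) := by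
              simp only [Finset.mem_insert, Finset.mem_singleton]
              rintro (h | h)
              · apply hiz
                rw [zero_sub, neg_eq_zero] at h
                exact h
              · have h9 : (2 : ZMod m) = 0 := by
                  have h10 : (i : ZMod m) = 1 := (sub_eq_zero.1 h8).symm
                  rw [h10] at h
                  calc (2 : ZMod m) = 1 - (0 - 1) := by ring
                    _ = 0 := by rw [h, sub_self]
                have h11 : ((2 : ℕ) : ZMod m) = 0 := by exact_mod_cast h9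
                rw [ZMod.natCast_eq_zero_iff] at h11
                exact absurd (Nat.le_of_dvd (by norm_num) h11) (by omega)
            have e1 := hwt i 1
            rw [if_pos hA] at e1
            have e0 := hwt i 0
            rw [if_neg hB] at e0
            rw [e1, sub_neg_eq_add, map_add, e0]
            abel
          · have e1 := hwt i 1
            rw [if_neg hA] at e1
            rw [e1, sub_self, map_zero, sub_zero]
        · intro h
          exact absurd (Finset.mem_range.2 (NeZero.pos m)) h
      · rw [map_sum]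
        have e : ∀ i, ρ (sB m) (ρ ((sB m) ^ i) v1) = ρ ((sB m) ^ (i + 1)) v1 := by
          intro i
          rw [pow_succ', act_mul]
        rw [Finset.sum_congr rfl (fun i _ => e i)]
        have h12 := Finset.sum_range_succ (fun i => ρ ((sB m) ^ i) v1) m
        have h13 := Finset.sum_range_succ' (fun i => ρ ((sB m) ^ i) v1) m
        rw [h12, pow_zero, act_one, sB_pow, ← hy, hyv1] at h13
        exact (add_right_cancel h13).symm
    · obtain ⟨v, hv⟩ := exists_ne (0 : M)
      refine ⟨v, hv, ?_⟩
      rw [sB, act_mul, perm_trivial ρ htr, (trivial_of_sign ρ htr h01.symm).2]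

end

end Cfsg.Agent.H418.SpK
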