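import Cfsg.Agent.H418.SpK.ModA

/-!
# Modules for `Sp_4(3)` on which a non-central sign is a scalar
-/

set_option autoImplicit false
set_option linter.unusedSectionVars false

namespace Cfsg.Agent.H418.SpK

open Matrix

section OfForm

variable {ι : Type*} [Fintype ι] [DecidableEq ι]

theorem injective_of_form (f : Module.End (ZMod 3) (W ι)) (h : ∀ v w, form (f v) (f w) = form v w) :
    Function.Injective f := by
  rw [injective_iff_map_eq_zero]
  intro v hv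
  apply form_nondeg
  intro w
  rw [← h, hv, form_zero_left]

/-- an element of `Sp` from an isometry -/
noncomputable def ofForm (f : Module.End (ZMod 3) (W ι)) (h : ∀ v w, form (f v) (f w) = form v w) :
    Sp ι :=
  ⟨LinearEquiv.ofInjectiveEndo f (injective_of_form f h), h⟩

theorem ofForm_apply (f : Module.End (ZMod 3) (W ι)) (h : ∀ v w, form (f v) (f w) = form v w)
    (v : W ι) : (ofForm f h).1 v = f v := rfl

end OfForm

theorem form_two (v w : W (Fin 2)) : form v w =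
    (v 0 0 * w 0 1 - v 0 1 * w 0 0) + (v 1 0 * w 1 1 - v 1 1 * w 1 0) := by
  rw [form, Fin.sum_univ_two]

/-- the linear map `A ⊗ q` -/
def cFun : Module.End (ZMod 3) (W (Fin 2)) where
  toFun v := ![![v 0 0 + v 1 0, - v 0 1 - v 1 1], ![- v 0 0 + v 1 0, v 0 1 - v 1 1]]
  map_add' v w := by
    funext i j
    fin_cases i <;> fin_cases j <;> simp <;> ring
  map_smul' c v := by
    funext i j
    fin_cases i <;> fin_cases j <;> simp <;> ring

theorem three_eq_zero : (3 : ZMod 3) = 0 := rfl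

theorem cFun_form (v w : W (Fin 2)) : form (cFun v) (cFun w) = form v w := by
  rw [form_two, form_two]
  simp only [cFun, LinearMap.coe_mk, AddHom.coe_mk, Matrix.cons_val_zero, Matrix.cons_val_one]
  linear_combination (v 0 1 * w 0 0 + v 1 1 * w 1 0 - v 0 0 * w 0 1 - v 1 0 * w 1 1) * three_eq_zero

/-- the element `A ⊗ q` -/
noncomputable def cElt : Sp (Fin 2) := ofForm cFun cFun_form

theorem cElt_z : cElt * S 0 (-1) = P (Fin 2) (Equiv.swap 0 1) * cElt := by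
  apply Sp.ext
  intro v i
  rw [Sp.mul_apply, Sp.mul_apply, P_apply]
  have h0 : (S (0 : Fin 2) (-1)).1 v 0 = - v 0 := by
    rw [S_apply]
    change (-1 : Matrix (Fin 2) (Fin 2) (ZMod 3)) *ᵥ v 0 = _
    rw [Matrix.neg_mulVec, Matrix.one_mulVec]
  have h1 : (S (0 : Fin 2) (-1)).1 v 1 = v 1 := S_apply' 0 _ v (by decide)
  have e : ∀ u : W (Fin 2), cElt.1 u = cFun u := fun u => rfl
  rw [e, e]
  funext j
  fin_cases i <;> fin_cases j <;>
    simp [cFun, h0, h1]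

section

variable {V : Type*} [AddCommGroup V] [Module (ZMod 3) V]

theorem act_inv {G : Type*} [Group G] (ρ : G →* Module.End (ZMod 3) V) (g : G) (x : V) :
    ρ g (ρ g⁻¹ x) = x := by
  rw [← Module.End.mul_apply, ← map_mul, mul_inv_cancel, map_one]
  rfl

theorem act_inv' {G : Type*} [Group G] (ρ : G →* Module.End (ZMod 3) V) (g : G) (x : V) :
    ρ g⁻¹ (ρ g x) = x := by
  rw [← Module.End.mul_apply, ← map_mul, inv_mul_cancel, map_one]
  rfl

theorem act_mul {G : Type*} [Group G] (ρ : G →* Module.End (ZMod 3) V) (g h : G) (x : V) :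
    ρ (g * h) x = ρ g (ρ h x) := by
  rw [map_mul]
  rfl

theorem act_one {G : Type*} [Group G] (ρ : G →* Module.End (ZMod 3) V) (x : V) :
    ρ 1 x = x := by
  rw [map_one]
  rfl

theorem act_inv_eq {G : Type*} [Group G] (ρ : G →* Module.End (ZMod 3) V) {g : G} {x y : V}
    (h : ρ g x = y) : ρ g⁻¹ y = x := by
  rw [← h, act_inv']

/-- `Lemma Q` -/
theorem lemQ_swap (ρ : Sp (Fin 2) →* Module.End (ZMod 3) V) (X : Submodule (ZMod 3) V)
    (hX : ∀ g, ∀ x ∈ X, ρ g x ∈ X) {ε : ZMod 3}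
    (hz : ∀ x ∈ X, ρ (S 0 (-1)) x = ε • x) :
    ∀ x ∈ X, ρ (P (Fin 2) (Equiv.swap 0 1)) x = ε • x := by
  intro x hx
  have : P (Fin 2) (Equiv.swap 0 1) = cElt * S 0 (-1) * cElt⁻¹ := by
    rw [cElt_z]
    group
  rw [this, act_mul, act_mul, hz _ (hX _ _ hx), map_smul, act_inv]

theorem lemQ_comm (ρ : Sp (Fin 2) →* Module.End (ZMod 3) V) (X : Submodule (ZMod 3) V)
    (hX : ∀ g, ∀ x ∈ X, ρ g x ∈ X) {ε : ZMod 3} (hε : ε * ε = 1)
    (hz : ∀ x ∈ X, ρ (S 0 (-1)) x = ε • x) (a b : SL) :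
    ∀ x ∈ X, ρ (S 1 (a * b * a⁻¹ * b⁻¹)) x = x := by
  set h : Sp (Fin 2) := P (Fin 2) (Equiv.swap 0 1) with hh
  have hs := lemQ_swap ρ X hX hz
  have hr : ∀ x ∈ X, ρ (S 0 (-1) * h) x = x := by
    intro x hx
    rw [act_mul, hs x hx, map_smul, hz x hx, smul_smul, hε, one_smul]
  have hr' : ∀ x ∈ X, ρ (S 0 (-1) * h)⁻¹ x = x := fun x hx => act_inv_eq ρ (hr x hx)
  have hd : ∀ q : SL, ∀ x ∈ X, ρ (S 0 q * S 1 q⁻¹) x = x := by
    intro q x hx
    have e1 : S (1 : Fin 2) q⁻¹ = (S 0 (-1) * h) * S 0 q⁻¹ * (S 0 (-1) * h)⁻¹ := by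
      have e2 : h * S 0 q⁻¹ = S 1 q⁻¹ * h := by
        rw [hh, P_S]
        congr 2
      have e3 : S (0 : Fin 2) (-1) * S 1 q⁻¹ = S 1 q⁻¹ * S 0 (-1) := S_comm (by decide) _ _
      calc S (1 : Fin 2) q⁻¹ = (S 1 q⁻¹ * S 0 (-1)) * h * (S 0 (-1) * h)⁻¹ := by group
        _ = S 0 (-1) * (S 1 q⁻¹ * h) * (S 0 (-1) * h)⁻¹ := by rw [← e3]; group
        _ = _ := by rw [← e2]; group
    rw [e1, act_mul, act_mul, act_mul, hr' x hx, hr _ (hX _ _ hx), map_inv, act_inv]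
  intro x hx
  have e4 : S (1 : Fin 2) (a * b * a⁻¹ * b⁻¹) =
      (S 0 (a * b) * S 1 (a * b)⁻¹)⁻¹ * (S 0 a * S 1 a⁻¹) * (S 0 b * S 1 b⁻¹) := by
    have c1 : ∀ x y : SL, S (1 : Fin 2) x * S 0 y = S 0 y * S 1 x := fun x y => S_comm (by decide) _ _
    rw [_root_.mul_inv_rev]
    simp only [mul_assoc]
    rw [← map_inv (S (1 : Fin 2)), ← map_inv (S (0 : Fin 2)), inv_inv,
      ← mul_assoc (S (1 : Fin 2) a⁻¹), c1 a⁻¹ b, mul_assoc, ← map_mul (S (1 : Fin 2)) a⁻¹,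
      ← mul_assoc (S (0 : Fin 2) a), ← map_mul, ← mul_assoc (S (0 : Fin 2) _⁻¹), ← map_mul,
      inv_mul_cancel, map_one, one_mul, ← map_mul]
    congr 1
    simp only [mul_assoc]
  rw [e4, act_mul, act_mul, hd b x hx, hd a x hx]
  exact act_inv_eq ρ (hd (a * b) x hx)

theorem lemQ (ρ : Sp (Fin 2) →* Module.End (ZMod 3) V) (X : Submodule (ZMod 3) V)
    (hX : ∀ g, ∀ x ∈ X, ρ g x ∈ X)
    (h1 : ∀ x ∈ X, ρ (D (Fin 2) (fun _ => -1)) x = x)
    (hz : ∀ x ∈ X, ρ (S 0 (-1)) x = -x) : X = ⊥ := by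
  have h := lemQ_comm ρ X hX (ε := -1) (by decide) (fun x hx => by rw [hz x hx, neg_one_smul]) i0 j0
  have e : i0 * j0 * i0⁻¹ * j0⁻¹ = -1 := by
    sl_dec
  rw [e] at h
  have e2 : D (Fin 2) (fun _ => -1) = S 0 (-1) * S 1 (-1) := by
    rw [S_eq, S_eq, ← map_mul]
    congr 1
    funext i
    fin_cases i <;> simp
  rw [eq_bot_iff]
  intro x hx
  rw [Submodule.mem_bot]
  have h2 := h1 x hx
  rw [e2, act_mul, h x hx, hz x hx] at h2
  exact eq_neg_self h2.symm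

end

end Cfsg.Agent.H418.SpK
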