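import Cfsg.Agent.H418.SpK.ModA
import Cfsg.Agent.H376.PrimeOrd

/-!
# Element orders of `PSp_{2n}(3)`: the commutant of an element of prime order
-/

set_option autoImplicit false
set_option linter.unusedSectionVars false

namespace Cfsg.Agent.H418.SpK

open Matrix Polynomial

section

variable {ι : Type*} [Fintype ι] [DecidableEq ι]

/-- the natural representation -/
def lin (ι : Type*) [Fintype ι] : Sp ι →* Module.End (ZMod 3) (W ι) where
  toFun g := g.1.toLinearMap
  map_one' := rfl
  map_mul' _ _ := rfl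

theorem lin_apply (g : Sp ι) (v : W ι) : lin ι g v = g.1 v := rfl

theorem lin_injective : Function.Injective (lin ι) := by
  intro g h hgh
  exact Sp.ext fun v i => by
    rw [← lin_apply, ← lin_apply, hgh]

theorem finrank_W : Module.finrank (ZMod 3) (W ι) = 2 * Fintype.card ι := by
  rw [Module.finrank_pi_fintype]
  simp [mul_comm]

theorem form_lin (g : Sp ι) (v w : W ι) : form (lin ι g v) (lin ι g w) = form v w := g.2 v w

theorem form_lin_left (g : Sp ι) (v w : W ι) : form (lin ι g v) w = form v (lin ι g⁻¹ w) := by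
  have h := form_lin g v (lin ι g⁻¹ w)
  rw [← Module.End.mul_apply, ← map_mul, mul_inv_cancel, map_one, Module.End.one_apply] at h
  exact h

/-- `ker (x - 1)` and `range (x - 1)` are orthogonal -/
theorem form_ker_range (x : Sp ι) {z : W ι} (hz : lin ι x z = z) (w : W ι) :
    form (lin ι x w - w) z = 0 := by
  have h := form_lin x w z
  rw [hz] at h
  rw [form_sub_left, h, sub_self]

theorem add_ker_range {x : Module.End (ZMod 3) (W ι)} {r : ℕ} (hx : x ^ r = 1)
    (hr : (r : ZMod 3) ≠ 0) (v : W ι) : ∃ z, x z = z ∧ ∃ w, v = z + (x w - w) := by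
  have h1 := Cfsg.Agent.H376.PrimeOrd.ker_inf_range hx hr
  have h2 := LinearMap.finrank_range_add_finrank_ker (x - 1)
  have h3 := Submodule.finrank_sup_add_finrank_inf_eq (LinearMap.ker (x - 1))
    (LinearMap.range (x - 1))
  rw [h1, finrank_bot, add_zero] at h3
  have h4 : LinearMap.ker (x - 1) ⊔ LinearMap.range (x - 1) = ⊤ := by
    apply Submodule.eq_top_of_finrank_eq
    rw [h3, ← h2, add_comm]
  have h5 : v ∈ LinearMap.ker (x - 1) ⊔ LinearMap.range (x - 1) := h4 ▸ Submodule.mem_top
  obtain ⟨z, hz, u, ⟨w, hw⟩, hv⟩ := Submodule.mem_sup.1 h5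
  refine ⟨z, ?_, w, ?_⟩
  · have : x z - z = 0 := hz
    exact sub_eq_zero.1 this
  · rw [← hv, ← hw]
    rfl

theorem range_nondeg {x : Sp ι} {r : ℕ} (hx : (lin ι x) ^ r = 1) (hr : (r : ZMod 3) ≠ 0) {w : W ι}
    (h : ∀ v, form (lin ι x v - v) (lin ι x w - w) = 0) : lin ι x w - w = 0 := by
  apply form_nondeg
  intro u
  obtain ⟨z, hz, w', rfl⟩ := add_ker_range hx hr u
  rw [form_add_right, form_ker_range x hz, zero_add, form_swap, h, neg_zero]

theorem comm_aeval {x g : Module.End (ZMod 3) (W ι)} (hxg : x * g = g * x) (h : (ZMod 3)[X]) :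
    aeval x h * g = g * aeval x h := by
  induction h using Polynomial.induction_on' with
  | add p q hp hq => rw [map_add, add_mul, mul_add, hp, hq]
  | monomial n a =>
    rw [aeval_monomial, Algebra.algebraMap_eq_smul_one, smul_mul_assoc, one_mul, smul_mul_assoc,
      mul_smul_comm]
    congr 1
    have : Commute x g := hxg
    exact this.pow_left n

/-- **The commutant** -/
theorem commutant {x g : Module.End (ZMod 3) (W ι)} (hxg : x * g = g * x) {r : ℕ} (hrp : r.Prime)
    (hx : x ^ r = 1) (hr : (r : ZMod 3) ≠ 0)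
    (hd : Module.finrank (ZMod 3) (LinearMap.range (x - 1)) = orderOf (3 : ZMod r))
    (hx1 : x ≠ 1) :
    ∃ f : (ZMod 3)[X], ∀ u ∈ LinearMap.range (x - 1), g u = aeval x f u := by
  obtain ⟨u0, hu0, hne⟩ := Submodule.exists_mem_ne_zero_of_ne_bot
    (Cfsg.Agent.H376.PrimeOrd.range_ne_bot hx1)
  let φ : (ZMod 3)[X] →ₗ[ZMod 3] W ι := (LinearMap.applyₗ u0).comp (aeval x).toLinearMap
  have hφ : ∀ f, φ f = aeval x f u0 := fun f => rfl
  have hpoly : ∀ f : (ZMod 3)[X], ∀ u ∈ LinearMap.range (x - 1),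
      aeval x f u ∈ LinearMap.range (x - 1) := by
    intro f u hu
    have hcomm : x * aeval x f = aeval x f * x := by
      have h1 : aeval x (X * f) = aeval x (f * X) := by rw [mul_comm]
      rw [map_mul, map_mul, aeval_X] at h1
      exact h1
    exact Cfsg.Agent.H376.PrimeOrd.range_mem hcomm u hu
  have hle : LinearMap.range φ ≤ LinearMap.range (x - 1) := by
    rintro _ ⟨f, rfl⟩
    exact hpoly f u0 hu0
  have hst : ∀ u ∈ LinearMap.range φ, x u ∈ LinearMap.range φ := by
    rintro _ ⟨f, rfl⟩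
    refine ⟨X * f, ?_⟩
    rw [hφ, hφ, map_mul, aeval_X]
    rfl
  have hdvd := Cfsg.Agent.H376.PrimeOrd.ord_dvd hrp hx hr (LinearMap.range φ) hst hle
  have hcard : ((Nat.card (ZMod 3) : ℕ) : ZMod r) = 3 := by
    rw [Nat.card_zmod]
    norm_num
  rw [hcard] at hdvd
  have hne' : LinearMap.range φ ≠ ⊥ := by
    intro h
    apply hne
    have : φ 1 ∈ LinearMap.range φ := ⟨1, rfl⟩
    rw [h, Submodule.mem_bot, hφ, map_one] at this
    exact this
  have hpos : 0 < Module.finrank (ZMod 3) (LinearMap.range φ) := by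
    rw [Nat.pos_iff_ne_zero]
    intro h
    exact hne' (Submodule.finrank_eq_zero.1 h)
  have heq : LinearMap.range φ = LinearMap.range (x - 1) :=
    Submodule.eq_of_le_of_finrank_le hle (by rw [hd]; exact Nat.le_of_dvd hpos hdvd)
  have hg0 : g u0 ∈ LinearMap.range φ := by
    rw [heq]
    exact Cfsg.Agent.H376.PrimeOrd.range_mem hxg u0 hu0
  obtain ⟨f, hf⟩ := hg0
  refine ⟨f, fun u hu => ?_⟩
  rw [← heq] at hu
  obtain ⟨h, rfl⟩ := hu
  have hgc : g * aeval x h = aeval x h * g := (comm_aeval hxg h).symm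
  have e1 : g (φ h) = aeval x h (g u0) := congrArg (fun F : Module.End (ZMod 3) (W ι) => F u0) hgc
  rw [e1, ← hf, hφ, hφ]
  have e2 : aeval x h * aeval x f = aeval x f * aeval x h := by
    rw [← map_mul, ← map_mul, mul_comm]
  exact congrArg (fun F : Module.End (ZMod 3) (W ι) => F u0) e2

end

end Cfsg.Agent.H418.SpK
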