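import Cfsg.Agent.H418.SpK.Spec1

/-!
# Element orders of `PSp_{2n}(3)`: the unitary relation
-/

set_option autoImplicit false
set_option linter.unusedSectionVars false

namespace Cfsg.Agent.H418.SpK

open Matrix Polynomial

theorem sq_eq_one_iff_of_side {R : Type*} [CommRing R] [IsDomain R] {a : R} (h : a ^ 2 = 1) :
    a = 1 ∨ a = -1 := by
  have h2 : (a - 1) * (a + 1) = 0 := by
    have : (a - 1) * (a + 1) = a ^ 2 - 1 := by ring
    rw [this, h, sub_self]
  rcases mul_eq_zero.1 h2 with h3 | h3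
  · exact Or.inl (sub_eq_zero.1 h3)
  · exact Or.inr (eq_neg_of_add_eq_zero_left h3)

theorem neg_one_of_order {r m : ℕ} (hr : r.Prime) (hm : m ≠ 0)
    (ho : orderOf (3 : ZMod r) = 2 * m) : (3 : ZMod r) ^ m = -1 := by
  have : Fact r.Prime := ⟨hr⟩
  have h1 : ((3 : ZMod r) ^ m) ^ 2 = 1 := by
    rw [← pow_mul, mul_comm m 2, ← ho]
    exact pow_orderOf_eq_one _
  rcases sq_eq_one_iff_of_side h1 with h | h
  · exfalso
    have h2 := orderOf_dvd_of_pow_eq_one h
    rw [ho] at h2
    have := Nat.le_of_dvd (Nat.pos_of_ne_zero hm) h2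
    omega
  · exact h

theorem dvd_of_order {r m : ℕ} (hr : r.Prime) (hm : m ≠ 0)
    (ho : orderOf (3 : ZMod r) = 2 * m) : r ∣ 3 ^ m + 1 := by
  have h := neg_one_of_order hr hm ho
  rw [← ZMod.natCast_eq_zero_iff]
  push_cast
  rw [h]
  ring

theorem ne_two_of_order {r m : ℕ}
    (ho : orderOf (3 : ZMod r) = 2 * m) : r ≠ 2 := by
  rintro rfl
  have : orderOf (3 : ZMod 2) = 1 := by
    rw [orderOf_eq_one_iff]
    rfl
  omega

theorem not_three' {m : ℕ} (hm : m ≠ 0) : ¬ (3 ∣ 3 ^ m + 1) := by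
  intro hd
  have h5 : 3 ∣ 3 ^ m := dvd_pow_self 3 hm
  have := (Nat.dvd_add_right h5).1 hd
  norm_num at this

section

variable {ι : Type*} [Fintype ι] [DecidableEq ι]

theorem expand_pow (f : (ZMod 3)[X]) (k : ℕ) : expand (ZMod 3) (3 ^ k) f = f ^ 3 ^ k := by
  have : Fact (Nat.Prime 3) := ⟨Nat.prime_three⟩
  induction k with
  | zero => simp
  | succ k ih =>
    rw [pow_succ', ← expand_expand, ih, map_pow, ZMod.expand_card, ← pow_mul]

theorem form_aeval (x : Sp ι) (f : (ZMod 3)[X]) (v w : W ι) :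
    form (aeval (lin ι x) f v) w = form v (aeval (lin ι x⁻¹) f w) := by
  induction f using Polynomial.induction_on' with
  | add p q hp hq =>
    rw [map_add, map_add, LinearMap.add_apply, LinearMap.add_apply, form_add_left, form_add_right,
      hp, hq]
  | monomial n a =>
    rw [aeval_monomial, aeval_monomial, Algebra.algebraMap_eq_smul_one, smul_mul_assoc, one_mul,
      smul_mul_assoc, one_mul,
      LinearMap.smul_apply, LinearMap.smul_apply, form_smul_left, form_smul_right, ← map_pow,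
      ← map_pow, form_lin_left, inv_pow]

theorem unitary {x g : Sp ι} (hxg : x * g = g * x) {r m : ℕ} (hrp : r.Prime) (hx : x ^ r = 1)
    (hx1 : x ≠ 1) (hm : m ≠ 0) (ho : orderOf (3 : ZMod r) = 2 * m)
    (hfin : Module.finrank (ZMod 3) (LinearMap.range (lin ι x - 1)) < 2 * (2 * m)) :
    Module.finrank (ZMod 3) (LinearMap.range (lin ι x - 1)) = 2 * m ∧
    ∀ u ∈ LinearMap.range (lin ι x - 1), ((lin ι g) ^ (3 ^ m + 1)) u = u := by
  have hx' : (lin ι x) ^ r = 1 := by rw [← map_pow, hx, map_one]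
  have hx1' : lin ι x ≠ 1 := by
    intro h
    apply hx1
    apply lin_injective
    rw [h, map_one]
  have hr3 : r ≠ 3 := by
    rintro rfl
    exact not_three' hm (dvd_of_order hrp hm ho)
  have hr : (r : ZMod 3) ≠ 0 := by
    intro h
    rw [ZMod.natCast_eq_zero_iff] at h
    exact hr3 ((Nat.prime_dvd_prime_iff_eq Nat.prime_three hrp).1 h).symm
  have hcard : ((Nat.card (ZMod 3) : ℕ) : ZMod r) = 3 := by
    rw [Nat.card_zmod]
    norm_num
  have hU := Cfsg.Agent.H376.PrimeOrd.ord_dvd hrp hx' hr (LinearMap.range (lin ι x - 1))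
    (Cfsg.Agent.H376.PrimeOrd.range_mem rfl) le_rfl
  rw [hcard, ho] at hU
  have hpos : 0 < Module.finrank (ZMod 3) (LinearMap.range (lin ι x - 1)) := by
    rw [Nat.pos_iff_ne_zero]
    intro h
    exact Cfsg.Agent.H376.PrimeOrd.range_ne_bot hx1' (Submodule.finrank_eq_zero.1 h)
  have hfr : Module.finrank (ZMod 3) (LinearMap.range (lin ι x - 1)) = 2 * m := by
    obtain ⟨k, hk⟩ := hU
    rw [hk] at hfin hpos ⊢
    have : k = 1 := by
      rcases Nat.lt_or_ge k 2 with h | h
      · rcases Nat.eq_zero_or_pos k with h' | h'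
        · subst h'
          omega
        · omega
      · exfalso
        have : 2 * m * 2 ≤ 2 * m * k := Nat.mul_le_mul_left _ h
        omega
    rw [this, mul_one]
  refine ⟨hfr, ?_⟩
  have hxg' : lin ι x * lin ι g = lin ι g * lin ι x := by rw [← map_mul, hxg, map_mul]
  obtain ⟨f, hf⟩ := commutant hxg' hrp hx' hr (by rw [hfr, ho]) hx1'
  set F := aeval (lin ι x) f with hF
  have hFU : ∀ u ∈ LinearMap.range (lin ι x - 1), F u ∈ LinearMap.range (lin ι x - 1) := by
    intro u hu
    rw [← hf u hu]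
    exact Cfsg.Agent.H376.PrimeOrd.range_mem hxg' u hu
  have hpow : ∀ k : ℕ, ∀ u ∈ LinearMap.range (lin ι x - 1),
      ((lin ι g) ^ k) u = (F ^ k) u ∧ (F ^ k) u ∈ LinearMap.range (lin ι x - 1) := by
    intro k
    induction k with
    | zero => exact fun u hu => ⟨rfl, hu⟩
    | succ k ih =>
      intro u hu
      obtain ⟨h1, h2⟩ := ih u hu
      rw [pow_succ', pow_succ', Module.End.mul_apply, Module.End.mul_apply, h1, hf _ h2]
      exact ⟨rfl, hFU _ h2⟩
  -- the inverse of `x`
  have hxinv : lin ι x⁻¹ = (lin ι x) ^ (3 ^ m) := by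
    obtain ⟨c, hc⟩ := dvd_of_order hrp hm ho
    have h1 : x ^ 3 ^ m * x = 1 := by
      rw [← pow_succ, hc, pow_mul, hx, one_pow]
    rw [← map_pow, eq_comm, eq_inv_of_mul_eq_one_left h1]
  have hF' : aeval (lin ι x⁻¹) f = F ^ 3 ^ m := by
    rw [hxinv, hF, ← map_pow (aeval (lin ι x)), ← expand_pow, expand_aeval]
  have key : ∀ v ∈ LinearMap.range (lin ι x - 1), (F ^ (3 ^ m + 1)) v = v := by
    intro v hv
    have hmem : (F ^ (3 ^ m + 1)) v - v ∈ LinearMap.range (lin ι x - 1) :=
      Submodule.sub_mem _ ((hpow _ v hv).2) hv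
    obtain ⟨w, hw⟩ := hmem
    have hw' : lin ι x w - w = (F ^ (3 ^ m + 1)) v - v := hw
    have h0 : lin ι x w - w = 0 := by
      apply range_nondeg hx' hr
      intro u
      rw [hw', form_sub_right]
      set u' := lin ι x u - u with hu'
      have hu'm : u' ∈ LinearMap.range (lin ι x - 1) := ⟨u, rfl⟩
      have h2 := form_lin g u' v
      rw [hf u' hu'm, hf v hv, hF, form_aeval, ← hF, hF', ← Module.End.mul_apply, ← pow_succ] at h2
      rw [h2, sub_self]
    rw [hw', sub_eq_zero] at h0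
    exact h0
  intro u hu
  rw [(hpow _ u hu).1]
  exact key u hu

end

end Cfsg.Agent.H418.SpK
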