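import Cfsg.Agent.H418.SpK.Spec3
import Cfsg.Agent.H418.SpK.Delta

/-!
# Element orders of `PSp_{2n}(3)`: unipotent elements and elements of order a power of two
-/

set_option autoImplicit false
set_option linter.unusedSectionVars false

namespace Cfsg.Agent.H418.SpK

open Matrix

section Chain

variable {V : Type*} [AddCommGroup V] [Module (ZMod 3) V] [Finite V]

theorem chain (f : Module.End (ZMod 3) V) (X : Submodule (ZMod 3) V) (hf : ∀ x ∈ X, f x ∈ X)
    {N : ℕ} (hN : ∀ x ∈ X, (f ^ N) x = 0) {q : ℕ} {x0 : V} (hx0 : x0 ∈ X) (hq : (f ^ q) x0 ≠ 0)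
    (e : ℕ) (hstep : ∀ A B : Submodule (ZMod 3) V, B < A →
      (∃ i, A = X.map (f ^ i)) → (B = ⊥ ∨ ∃ i, B = X.map (f ^ i)) →
      Module.finrank (ZMod 3) B + e ≤ Module.finrank (ZMod 3) A) :
    e * (q + 1) ≤ Module.finrank (ZMod 3) X := by
  have hmono : ∀ i, X.map (f ^ (i + 1)) ≤ X.map (f ^ i) := by
    rintro i _ ⟨x, hx, rfl⟩
    refine ⟨f x, hf x hx, ?_⟩
    rw [pow_succ]
    rfl
  have hne : ∀ i, i ≤ q → X.map (f ^ i) ≠ ⊥ := by
    intro i hi h
    apply hq
    have h1 : (f ^ i) x0 ∈ X.map (f ^ i) := ⟨x0, hx0, rfl⟩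
    rw [h, Submodule.mem_bot] at h1
    have : q = (q - i) + i := by omega
    rw [this, pow_add, Module.End.mul_apply, h1, map_zero]
  have hstrict : ∀ i, i ≤ q → X.map (f ^ (i + 1)) < X.map (f ^ i) := by
    intro i hi
    refine lt_of_le_of_ne (hmono i) ?_
    intro h
    have h2 : ∀ j, X.map (f ^ (i + j)) = X.map (f ^ i) := by
      intro j
      induction j with
      | zero => rfl
      | succ j ih =>
        have e1 : X.map (f ^ (i + (j + 1))) = (X.map (f ^ (i + j))).map f := by
          rw [← Submodule.map_comp, ← add_assoc, pow_succ']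
          rfl
        have e2 : X.map (f ^ (i + 1)) = (X.map (f ^ i)).map f := by
          rw [← Submodule.map_comp, pow_succ']
          rfl
        rw [e1, ih, ← e2, h]
    have h3 := h2 N
    apply hne i hi
    rw [← h3, eq_bot_iff]
    rintro _ ⟨x, hx, rfl⟩
    rw [Submodule.mem_bot, pow_add, Module.End.mul_apply, hN x hx, map_zero]
  have key : ∀ k, k ≤ q → e * (k + 1) ≤ Module.finrank (ZMod 3) (X.map (f ^ (q - k))) := by
    intro k
    induction k with
    | zero =>
      intro _
      have := hstep (X.map (f ^ q)) ⊥ (bot_lt_iff_ne_bot.2 (hne q le_rfl)) ⟨q, rfl⟩ (Or.inl rfl)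
      rw [finrank_bot] at this
      simpa using this
    | succ k ih =>
      intro hk
      have h1 := ih (by omega)
      have h2 : q - k = q - (k + 1) + 1 := by omega
      rw [h2] at h1
      have h3 := hstep _ _ (hstrict (q - (k + 1)) (by omega)) ⟨_, rfl⟩ (Or.inr ⟨_, rfl⟩)
      calc e * (k + 1 + 1) = e * (k + 1) + e := by ring
        _ ≤ _ := by omega
  have h1 := key q le_rfl
  rw [Nat.sub_self, pow_zero] at h1
  have h2 : X.map (1 : Module.End (ZMod 3) V) = X := Submodule.map_id X
  rw [h2] at h1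
  exact h1

/-- steps of stable subspaces on which `s² - 1` is injective -/
theorem codim_two (s : Module.End (ZMod 3) V) (A B : Submodule (ZMod 3) V) (hBA : B < A)
    (hA : ∀ x ∈ A, s x ∈ A) (hB : ∀ x ∈ B, s x ∈ B) (hi : ∀ x ∈ A, s (s x) = x → x = 0)
    (hi0 : ∀ x ∈ A, s x = 0 → x = 0) :
    Module.finrank (ZMod 3) B + 2 ≤ Module.finrank (ZMod 3) A := by
  have hlt := Submodule.finrank_lt_finrank_of_lt hBA
  by_contra hcon
  have heq : Module.finrank (ZMod 3) A = Module.finrank (ZMod 3) B + 1 := by omega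
  obtain ⟨a, haA, haB⟩ := SetLike.exists_of_lt hBA
  have hsup : A = B ⊔ Submodule.span (ZMod 3) {a} := by
    symm
    apply Submodule.eq_of_le_of_finrank_le
    · refine sup_le hBA.le ?_
      rw [Submodule.span_singleton_le_iff_mem]
      exact haA
    · rw [heq]
      have : B < B ⊔ Submodule.span (ZMod 3) {a} := by
        refine lt_of_le_of_ne le_sup_left ?_
        intro h
        apply haB
        rw [h]
        exact Submodule.mem_sup_right (Submodule.mem_span_singleton_self a)
      exact Submodule.finrank_lt_finrank_of_lt this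
  have hdec : ∀ x ∈ A, ∃ b ∈ B, ∃ l : ZMod 3, x = b + l • a := by
    intro x hx
    rw [hsup] at hx
    obtain ⟨b, hb, c, hc, hbc⟩ := Submodule.mem_sup.1 hx
    obtain ⟨l, hl⟩ := Submodule.mem_span_singleton.1 hc
    exact ⟨b, hb, l, by rw [hl, hbc]⟩
  obtain ⟨b, hb, l, hl⟩ := hdec _ (hA a haA)
  have hcases : ∀ t : ZMod 3, t = 0 ∨ t * t = 1 := by decide
  have hle : Module.finrank (ZMod 3) A ≤ Module.finrank (ZMod 3) B := by
    rcases hcases l with h | h
    · refine finrank_le_of_inj s A B ?_ hi0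
      intro x hx
      obtain ⟨b', hb', l', rfl⟩ := hdec x hx
      rw [map_add, map_smul, hl, h, zero_smul, add_zero]
      exact B.add_mem (hB _ hb') (B.smul_mem _ hb)
    · refine finrank_le_of_inj (s * s - 1) A B ?_ ?_
      · intro x hx
        obtain ⟨b', hb', l', rfl⟩ := hdec x hx
        have e1 : (s * s - 1) (b' + l' • a) = (s (s b') - b') + l' • (s b + l • b) := by
          rw [LinearMap.sub_apply, Module.End.mul_apply, Module.End.one_apply]
          simp only [map_add, map_smul, hl]
          have h7 : l • (b + l • a) = l • b + a := by rw [smul_add, smul_smul, h, one_smul]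
          rw [h7]
          module
        rw [e1]
        exact B.add_mem (B.sub_mem (hB _ (hB _ hb')) hb')
          (B.smul_mem _ (B.add_mem (hB _ hb) (B.smul_mem _ hb)))
      · intro x hx h0
        apply hi x hx
        rw [LinearMap.sub_apply, Module.End.mul_apply, Module.End.one_apply, sub_eq_zero] at h0
        exact h0
  omega

end Chain

/-! ### arithmetic -/

theorem two_pow_dvd {c d : ℕ} (hc : 3 ≤ c) (hd : d ≠ 0) (h : 2 ^ c ∣ 3 ^ d - 1) :
    2 ^ (c - 2) ∣ d := by
  have h8 : 8 ∣ 3 ^ d - 1 := dvd_trans (pow_dvd_pow 2 hc) h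
  have hev : Even d := by
    by_contra hodd
    rw [Nat.not_even_iff_odd] at hodd
    obtain ⟨k, rfl⟩ := hodd
    have h1 : 3 ^ (2 * k + 1) % 8 = 3 := by
      rw [pow_succ, pow_mul, Nat.mul_mod, Nat.pow_mod]
      simp
    have h2 : 1 ≤ 3 ^ (2 * k + 1) := Nat.one_le_pow _ _ (by norm_num)
    generalize 3 ^ (2 * k + 1) = t at h1 h2 h8
    omega
  have h3 := padicValNat.pow_two_sub_pow (x := 3) (y := 1) (by norm_num) (by norm_num) (by norm_num)
    hd hev
  have e4 : padicValNat 2 (3 + 1) = 2 := by
    rw [show 3 + 1 = 2 ^ 2 by norm_num, padicValNat.prime_pow]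
  have e2 : padicValNat 2 (3 - 1) = 1 := by
    rw [show 3 - 1 = 2 by norm_num]
    exact padicValNat_self
  rw [one_pow, e4, e2] at h3
  have hne : 3 ^ d - 1 ≠ 0 := by
    have : 3 ^ 1 ≤ 3 ^ d := Nat.pow_le_pow_right (by norm_num) (Nat.pos_of_ne_zero hd)
    omega
  have h4 : c ≤ padicValNat 2 (3 ^ d - 1) :=
    (padicValNat_dvd_iff_le hne).1 h
  exact (padicValNat_dvd_iff_le hd).2 (by omega)

section Free

variable {V : Type*} [AddCommGroup V] [Module (ZMod 3) V] [Finite V] {G : Type*} [Group G]
  [Finite G]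

/-- a free action on the non zero vectors -/
theorem free_dvd (ρ : G →* Module.End (ZMod 3) V) (P : Submodule (ZMod 3) V)
    (hP : ∀ g, ∀ x ∈ P, ρ g x ∈ P) (hfree : ∀ g, g ≠ 1 → ∀ x ∈ P, ρ g x = x → x = 0) :
    Nat.card G ∣ 3 ^ Module.finrank (ZMod 3) P - 1 := by
  classical
  let X := {x : P // x ≠ 0}
  let _ : MulAction G X :=
    { smul := fun g x => ⟨⟨ρ g x.1.1, hP g _ x.1.2⟩, by
        intro h
        apply x.2
        apply Subtype.ext
        have h1 : ρ g x.1.1 = 0 := congrArg Subtype.val h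
        have h2 := act_inv' ρ g x.1.1
        rw [h1, map_zero] at h2
        exact h2.symm⟩
      one_smul := fun x => by
        apply Subtype.ext
        apply Subtype.ext
        exact act_one ρ x.1.1
      mul_smul := fun g h x => by
        apply Subtype.ext
        apply Subtype.ext
        exact act_mul ρ g h x.1.1 }
  have hst : ∀ x : X, MulAction.stabilizer G x = ⊥ := by
    intro x
    rw [eq_bot_iff]
    intro g hg
    rw [Subgroup.mem_bot]
    by_contra hne
    have h1 : g • x = x := hg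
    have h2 : ρ g x.1.1 = x.1.1 := congrArg (fun y : X => y.1.1) h1
    exact x.2 (Subtype.ext (hfree g hne x.1.1 x.1.2 h2))
  have hX : Nat.card X = 3 ^ Module.finrank (ZMod 3) P - 1 := by
    have h1 : Nat.card P = 3 ^ Module.finrank (ZMod 3) P := by
      rw [Module.natCard_eq_pow_finrank (K := ZMod 3), Nat.card_zmod]
    have := Fintype.ofFinite P
    rw [Nat.card_eq_fintype_card] at h1
    rw [Nat.card_eq_fintype_card, Fintype.card_subtype_compl, Fintype.card_subtype_eq, h1]
  rw [← hX]
  have := Fintype.ofFinite G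
  have := Fintype.ofFinite X
  have h2 := MulAction.card_eq_sum_card_group_div_card_stabilizer G X
  rw [Nat.card_eq_fintype_card, Nat.card_eq_fintype_card, h2]
  refine Finset.dvd_sum fun ω _ => ?_
  have h3 : Fintype.card (MulAction.stabilizer G ω.out) = 1 := by
    rw [← Nat.card_eq_fintype_card, hst, Subgroup.card_bot]
  rw [h3, Nat.div_one]

end Free

end Cfsg.Agent.H418.SpK
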