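import Cfsg.Agent.H418.SpK.Spec4

/-!
# Element orders of `PSp_{2n}(3)`: `{2, 3}`-elements
-/

set_option autoImplicit false
set_option linter.unusedSectionVars false

namespace Cfsg.Agent.H418.SpK

open Matrix

section

variable {ι : Type*} [Fintype ι] [DecidableEq ι]

instance finiteSp : Finite (Sp ι) :=
  Finite.of_injective (fun g : Sp ι => (fun v => g.1 v)) (fun _ _ h =>
    Sp.ext fun v i => congrFun (congrFun h v) i)

theorem pow_apply_of_comm (s : Sp ι) (k : ℕ) : (lin ι s) ^ k = lin ι (s ^ k) := (map_pow _ _ _).symm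

theorem finite_sp_pow {s : Sp ι} {c : ℕ} (hc : 1 ≤ c) (h1 : s ^ 2 ^ c = 1)
    {k : ℕ} (hk : s ^ k ≠ 1) : ∃ a, (s ^ k) ^ a = s ^ 2 ^ (c - 1) := by
  have hk0 : k ≠ 0 := by
    rintro rfl
    exact hk (pow_zero s)
  obtain ⟨i, o, ho, rfl⟩ := Nat.exists_eq_two_pow_mul_odd hk0
  have hi : i ≤ c - 1 := by
    by_contra hcon
    apply hk
    have : 2 ^ i = 2 ^ c * 2 ^ (i - c) := by
      rw [← pow_add]
      congr 1
      omega
    rw [this, mul_assoc, pow_mul, h1, one_pow]
  refine ⟨2 ^ (c - 1 - i), ?_⟩
  rw [← pow_mul]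
  have e1 : 2 ^ i * o * 2 ^ (c - 1 - i) = 2 ^ (c - 1) * o := by
    have : 2 ^ (c - 1) = 2 ^ i * 2 ^ (c - 1 - i) := by
      rw [← pow_add]
      congr 1
      omega
    rw [this]
    ring
  rw [e1]
  obtain ⟨t, rfl⟩ := ho
  have e2 : 2 ^ (c - 1) * (2 * t + 1) = 2 ^ c * t + 2 ^ (c - 1) := by
    have : 2 ^ c = 2 ^ (c - 1) * 2 := by
      rw [← pow_succ]
      congr 1
      omega
    rw [this]
    ring
  rw [e2, pow_add, pow_mul, h1, one_pow, one_mul]

/-- the space where the power of `s` is `-1` -/
theorem mem_X {z : Sp ι} (hz : z * z = 1) (w : W ι) :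
    w ∈ LinearMap.range (lin ι z - 1) ↔ lin ι z w = -w := by
  constructor
  · rintro ⟨v, rfl⟩
    rw [LinearMap.sub_apply, Module.End.one_apply, map_sub, ← Module.End.mul_apply, ← map_mul, hz,
      map_one, Module.End.one_apply]
    abel
  · intro h
    refine ⟨w, ?_⟩
    rw [LinearMap.sub_apply, Module.End.one_apply, h]
    have := three_smul_eq w
    calc -w - w = -(w + w + w) + w := by abel
      _ = w := by rw [this, neg_zero, zero_add]

theorem X_nondeg {z : Sp ι} (hz : z * z = 1) {w : W ι} (hw : w ∈ LinearMap.range (lin ι z - 1))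
    (h : ∀ v ∈ LinearMap.range (lin ι z - 1), form w v = 0) : w = 0 := by
  rw [mem_X hz] at hw
  apply form_nondeg
  intro v
  -- `v = -(v + z v) - (v - z v)`
  have h1 := h (v - lin ι z v) (by
    rw [mem_X hz, map_sub, ← Module.End.mul_apply, ← map_mul, hz, map_one, Module.End.one_apply]
    abel)
  have h2 : form w (v + lin ι z v) = 0 := by
    have h3 := form_lin z w (v + lin ι z v)
    rw [hw, map_add, ← Module.End.mul_apply (lin ι z) (lin ι z), ← map_mul, hz, map_one,
      Module.End.one_apply, form_neg_left, add_comm (lin ι z v) v] at h3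
    exact eq_neg_self h3.symm
  have h4 : v = -(v + lin ι z v) - (v - lin ι z v) := by
    have := three_smul_eq v
    calc v = v - (v + v + v) := by rw [this, sub_zero]
      _ = _ := by abel
  rw [h4, form_sub_right, form_neg_right, h1, h2]
  simp

/-- **An element of order `2 ^ c`** -/
theorem two_part {s : Sp ι} {c : ℕ} (hc : 2 ≤ c) (h1 : s ^ 2 ^ c = 1) (h2 : s ^ 2 ^ (c - 1) ≠ 1) :
    2 ^ (c - 1) ≤ Module.finrank (ZMod 3) (LinearMap.range (lin ι (s ^ 2 ^ (c - 1)) - 1)) := by
  set z := s ^ 2 ^ (c - 1) with hz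
  have hzz : z * z = 1 := by
    rw [hz, ← pow_add]
    have : 2 ^ (c - 1) + 2 ^ (c - 1) = 2 ^ c := by
      rw [← two_mul, ← pow_succ']
      congr 1
      omega
    rw [this, h1]
  set X := LinearMap.range (lin ι z - 1) with hX
  have hXne : X ≠ ⊥ := by
    apply Cfsg.Agent.H376.PrimeOrd.range_ne_bot
    intro h
    apply h2
    apply lin_injective
    rw [h, map_one]
  have hst : ∀ k : ℕ, ∀ x ∈ X, lin ι (s ^ k) x ∈ X := by
    intro k x hx
    rw [hX, mem_X hzz] at hx ⊢
    rw [← Module.End.mul_apply, ← map_mul, hz, ← pow_add, add_comm, pow_add, map_mul,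
      Module.End.mul_apply, ← hz, hx, map_neg]
  rcases Nat.lt_or_ge c 3 with hc3 | hc3
  · have hc2 : c = 2 := by omega
    subst hc2
    have h3 := codim_two (lin ι s) X ⊥ (bot_lt_iff_ne_bot.2 hXne)
      (fun x hx => by simpa using hst 1 x hx) (fun x hx => by
        rw [Submodule.mem_bot] at hx ⊢
        rw [hx, map_zero])
      (by
        intro x hx hxx
        rw [hX, mem_X hzz, hz] at hx
        have : lin ι (s ^ 2 ^ (2 - 1)) x = lin ι s (lin ι s x) := by
          rw [show 2 ^ (2 - 1) = 2 by norm_num, pow_two, map_mul]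
          rfl
        rw [this, hxx] at hx
        exact eq_neg_self hx)
      (by
        intro x _ hx
        rw [lin_apply] at hx
        exact (LinearEquiv.map_eq_zero_iff s.1).1 hx)
    rw [finrank_bot] at h3
    simpa using h3
  · -- the element of order eight
    set t := s ^ 2 ^ (c - 3) with ht
    set Y := lin ι t with hY
    have hY4 : ∀ x ∈ X, Y (Y (Y (Y x))) = -x := by
      intro x hx
      rw [hX, mem_X hzz] at hx
      have : Y (Y (Y (Y x))) = lin ι (t ^ 4) x := by
        rw [map_pow]
        rfl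
      rw [this, ht, ← pow_mul]
      have : 2 ^ (c - 3) * 4 = 2 ^ (c - 1) := by
        rw [show 4 = 2 ^ 2 by norm_num, ← pow_add]
        congr 1
        omega
      rw [this, ← hz, hx]
    have hYst : ∀ x ∈ X, Y x ∈ X := hst _
    have hYform : ∀ v w, form (Y v) (Y w) = form v w := fun v w => form_lin t v w
    have hYinj : ∀ x, Y x = 0 → x = 0 := by
      intro x hx
      rw [hY, lin_apply] at hx
      exact (LinearEquiv.map_eq_zero_iff t.1).1 hx
    let Pf : ZMod 3 → Submodule (ZMod 3) (W ι) := fun e =>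
      X ⊓ LinearMap.ker (Y * Y + e • Y - 1)
    have mP : ∀ e x, x ∈ Pf e ↔ x ∈ X ∧ Y (Y x) + e • Y x - x = 0 := fun e x => Iff.rfl
    have hPs : ∀ e k, ∀ x ∈ Pf e, lin ι (s ^ k) x ∈ Pf e := by
      intro e k x hx
      rw [mP] at hx ⊢
      refine ⟨hst k x hx.1, ?_⟩
      have hc' : ∀ w, Y (lin ι (s ^ k) w) = lin ι (s ^ k) (Y w) := by
        intro w
        rw [hY, ← Module.End.mul_apply, ← Module.End.mul_apply, ← map_mul, ← map_mul, ht, ← pow_add,
          ← pow_add, add_comm]
      rw [hc', hc', ← map_smul, ← map_add, ← map_sub, hx.2, map_zero]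
    -- isotropy
    have hiso : ∀ e : ZMod 3, e ≠ 0 → ∀ v ∈ Pf e, ∀ w ∈ Pf e, form v w = 0 := by
      intro e he v hv w hw
      rw [mP] at hv hw
      have a1 : form (Y (Y v) + e • Y v - v) (Y w) = 0 := by rw [hv.2, form_zero_left]
      have a2 : form (Y v) (Y (Y w) + e • Y w - w) = 0 := by rw [hw.2, form_zero_right]
      rw [form_sub_left, form_add_left, form_smul_left, hYform, hYform] at a1
      rw [form_sub_right, form_add_right, form_smul_right, hYform, hYform] at a2
      have h5 : e * form v w + e * form v w = 0 := by linear_combination a1 + a2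
      have h6 : e * form v w = 0 := by
        rw [add_self] at h5
        exact neg_eq_zero.1 h5
      exact (mul_eq_zero.1 h6).resolve_left he
    have hp : ∀ e : ZMod 3, e * e = 1 → ∀ x ∈ X, Y (Y x) + e • Y x - x ∈ Pf (-e) := by
      intro e he x hx
      rw [mP]
      refine ⟨X.sub_mem (X.add_mem (hYst _ (hYst _ hx)) (X.smul_mem _ (hYst _ hx))) hx, ?_⟩
      simp only [map_sub, map_add, map_smul, hY4 x hx]
      have h7 := three_smul_eq (Y (Y x))
      have h8 : e • e • Y (Y x) = Y (Y x) := by rw [smul_smul, he, one_smul]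
      rw [smul_sub, smul_add]
      simp only [neg_smul]
      rw [h8]
      calc -x + e • Y (Y (Y x)) - Y (Y x) + (-(e • Y (Y (Y x))) + -Y (Y x) - -(e • Y x)) -
          (Y (Y x) + e • Y x - x) = -(Y (Y x) + Y (Y x) + Y (Y x)) := by abel
        _ = 0 := by rw [h7, neg_zero]
    have hPne : ∀ e : ZMod 3, e * e = 1 → Pf e ≠ ⊥ := by
      intro e he hbot
      have he0 : -e ≠ 0 := by
        intro h
        rw [neg_eq_zero] at h
        rw [h, mul_zero] at he
        exact absurd he (by decide)
      have hXP : ∀ x ∈ X, x ∈ Pf (-e) := by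
        intro x hx
        rw [mP]
        refine ⟨hx, ?_⟩
        have h9 := hp (-e) (by rw [neg_mul_neg, he]) x hx
        rw [neg_neg, hbot, Submodule.mem_bot] at h9
        exact h9
      obtain ⟨x, hx, hx0⟩ := Submodule.exists_mem_ne_zero_of_ne_bot hXne
      exact hx0 (X_nondeg hzz hx (fun v hv => hiso (-e) he0 x (hXP x hx) v (hXP v hv)))
    have hord : orderOf s = 2 ^ c := by
      have hc1 : c = (c - 1) + 1 := by omega
      have : Fact (Nat.Prime 2) := ⟨Nat.prime_two⟩
      have h13 := orderOf_eq_prime_pow h2 (by rw [← hc1]; exact h1)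
      rw [← hc1] at h13
      exact h13
    have hdim : ∀ e : ZMod 3, e * e = 1 → 2 ^ (c - 2) ≤ Module.finrank (ZMod 3) (Pf e) := by
      intro e he
      have hfin : IsOfFinOrder s := by
        rw [← orderOf_pos_iff, hord]
        positivity
      have hdvd := free_dvd (G := Subgroup.zpowers s) ((lin ι).comp (Subgroup.zpowers s).subtype)
        (Pf e)
        (by
          rintro ⟨g, hg⟩ x hx
          obtain ⟨k, rfl⟩ := (hfin.mem_powers_iff_mem_zpowers).2 hg
          exact hPs e k x hx)
        (by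
          rintro ⟨g, hg⟩ hg1 x hx hgx
          obtain ⟨k, rfl⟩ := (hfin.mem_powers_iff_mem_zpowers).2 hg
          have hk : s ^ k ≠ 1 := fun h => hg1 (Subtype.ext h)
          obtain ⟨a, ha⟩ := finite_sp_pow (by omega) h1 hk
          have h10 : lin ι (s ^ k) x = x := hgx
          have h11 : ∀ b : ℕ, lin ι ((s ^ k) ^ b) x = x := by
            intro b
            induction b with
            | zero =>
              rw [pow_zero, map_one]
              rfl
            | succ b ih => rw [pow_succ, map_mul, Module.End.mul_apply, h10, ih]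
          have h12 := h11 a
          rw [ha, ← hz, (mem_X hzz x).1 ((mP e x).1 hx).1] at h12
          exact eq_neg_self h12.symm)
      rw [Nat.card_zpowers, hord] at hdvd
      have hne : Module.finrank (ZMod 3) (Pf e) ≠ 0 := by
        intro h
        exact hPne e he (Submodule.finrank_eq_zero.1 h)
      exact Nat.le_of_dvd (Nat.pos_of_ne_zero hne) (two_pow_dvd hc3 hne hdvd)
    have hle : Pf 1 ⊔ Pf (-1) ≤ X := sup_le inf_le_left inf_le_left
    have hdisj : Pf 1 ⊓ Pf (-1) = ⊥ := by
      rw [eq_bot_iff]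
      rintro x ⟨hx, hx'⟩
      have b1 := ((mP 1 x).1 hx).2
      have b2 := ((mP (-1) x).1 hx').2
      rw [one_smul] at b1
      rw [neg_smul, one_smul] at b2
      rw [Submodule.mem_bot]
      apply hYinj
      have : Y x + Y x = 0 := by
        calc Y x + Y x = (Y (Y x) + Y x - x) - (Y (Y x) + -Y x - x) := by abel
          _ = 0 := by rw [b1, b2, sub_self]
      rw [add_self] at this
      exact neg_eq_zero.1 this
    have hsum := Submodule.finrank_sup_add_finrank_inf_eq (Pf 1) (Pf (-1))
    rw [hdisj, finrank_bot, add_zero] at hsum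
    have hX2 := Submodule.finrank_mono hle
    have d1 := hdim 1 (by decide)
    have d2 := hdim (-1) (by decide)
    have e3 : 2 ^ (c - 1) = 2 ^ (c - 2) + 2 ^ (c - 2) := by
      rw [← two_mul, ← pow_succ']
      congr 1
      omega
    omega

end

end Cfsg.Agent.H418.SpK
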