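import Cfsg.Agent.H418.SpK.ModA
import Cfsg.Agent.H376.SpEmb

/-!
# Elements of prime order inverted by the standard element of order four
-/

set_option autoImplicit false
set_option linter.unusedSectionVars false

namespace Cfsg.Agent.H418.SpK

open Matrix Polynomial

section SL2

variable {L : Type*} [Field L] [Finite L]

/-- a symmetric matrix of given trace and determinant one -/
theorem exists_symm (h2 : (2 : L) ≠ 0) (τ : L) : ∃ a b : L, a * (τ - a) - b * b = 1 := by
  classical
  have := Fintype.ofFinite L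
  have hodd : Fintype.card L % 2 = 1 := by
    apply FiniteField.odd_card_of_char_ne_two
    intro h
    apply h2
    have := CharP.cast_eq_zero L (ringChar L)
    rw [h] at this
    exact_mod_cast this
  obtain ⟨x, y, hxy⟩ := FiniteField.exists_root_sum_quadratic (R := L)
    (f := X ^ 2) (g := X ^ 2 - C (τ ^ 2 / 4 - 1)) (degree_X_pow 2)
    (by
      rw [degree_sub_C]
      · exact degree_X_pow 2
      · rw [degree_X_pow]
        norm_num) hodd
  refine ⟨x + τ / 2, y, ?_⟩
  have h4 : (4 : L) ≠ 0 := by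
    have : (4 : L) = 2 * 2 := by norm_num
    rw [this]
    exact mul_ne_zero h2 h2
  simp only [eval_pow, eval_X, eval_sub, eval_C] at hxy
  have e1 : τ / 2 + τ / 2 = τ := by field_simp; ring
  have e2 : (τ / 2) * (τ / 2) = τ ^ 2 / 4 := by
    field_simp
    ring
  have hτ : τ = τ / 2 + τ / 2 := e1.symm
  calc (x + τ / 2) * (τ - (x + τ / 2)) - y * y =
      (x + τ / 2) * ((τ / 2 + τ / 2) - (x + τ / 2)) - y * y := by rw [e1]
    _ = (τ / 2) * (τ / 2) - x ^ 2 - y ^ 2 := by ring
    _ = 1 := by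
      rw [e2]
      linear_combination -hxy

theorem cayley (A : Matrix (Fin 2) (Fin 2) L) (hd : A.det = 1) :
    A * A = A.trace • A - 1 := by
  rw [Matrix.det_fin_two] at hd
  ext i j
  rw [Matrix.mul_apply, Fin.sum_univ_two, Matrix.trace_fin_two]
  fin_cases i <;> fin_cases j <;> simp <;> first | ring1 | linear_combination -hd

theorem not_three {r m : ℕ} (hm : m ≠ 0) (hr : r.Prime) (hd : r ∣ 3 ^ m + 1) : r ≠ 3 := by
  rintro rfl
  have h5 : 3 ∣ 3 ^ m := dvd_pow_self 3 hm
  have := (Nat.dvd_add_right h5).1 hd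
  norm_num at this

theorem exists_inv_elt (h3 : (3 : L) = 0) {m : ℕ} (hm : m ≠ 0) (hL : Nat.card L = 3 ^ m) {r : ℕ}
    (hr : r.Prime) (hr2 : r ≠ 2) (hd : r ∣ 3 ^ m + 1) :
    ∃ A : Matrix.SpecialLinearGroup (Fin 2) L, A ^ r = 1 ∧ A ≠ 1 ∧ A.1 0 1 = A.1 1 0 := by
  obtain ⟨A1, hA1⟩ := Cfsg.Agent.H376.SpEmb.exists_of_dvd (by omega) (hL ▸ hd)
    (Cfsg.Agent.H376.SpEmb.exists_SL_two L)
  have h2 : (2 : L) ≠ 0 := by
    intro h
    have : (1 : L) = 0 := by
      calc (1 : L) = 3 - 2 := by norm_num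
        _ = 0 := by rw [h3, h, sub_zero]
    exact one_ne_zero this
  have hr3 := not_three hm hr hd
  set τ := A1.1.trace with hτ
  obtain ⟨a, b, hab⟩ := exists_symm h2 τ
  let A : Matrix.SpecialLinearGroup (Fin 2) L := ⟨!![a, b; b, τ - a], by
    rw [Matrix.det_fin_two_of]
    exact hab⟩
  have hAtr : A.1.trace = τ := by
    change (!![a, b; b, τ - a] : Matrix (Fin 2) (Fin 2) L).trace = τ
    rw [Matrix.trace_fin_two_of]
    ring
  -- the polynomial
  set p : L[X] := X ^ 2 - C τ * X + 1 with hp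
  have hpm : p.Monic := by
    rw [hp]
    monicity!
  have hpd : p.natDegree = 2 := by
    rw [hp]
    compute_degree!
  have hev : ∀ M : Matrix (Fin 2) (Fin 2) L, M.det = 1 → M.trace = τ → aeval M p = 0 := by
    intro M hM ht
    rw [hp]
    simp only [map_add, map_sub, map_mul, map_pow, aeval_X, aeval_C, map_one]
    rw [pow_two, cayley M hM, ht, Algebra.algebraMap_eq_smul_one, smul_mul_assoc, one_mul]
    abel
  -- the remainder
  obtain ⟨α, β, hαβ⟩ : ∃ α β, (X ^ r - 1 : L[X]) %ₘ p = C α * X + C β := by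
    apply exists_eq_X_add_C_of_natDegree_le_one
    have := natDegree_modByMonic_lt (X ^ r - 1 : L[X]) hpm (by
      intro h
      rw [h, natDegree_one] at hpd
      exact absurd hpd (by norm_num))
    omega
  have hdiv : (X ^ r - 1 : L[X]) = C α * X + C β + p * ((X ^ r - 1) /ₘ p) := by
    rw [← hαβ, modByMonic_add_div]
  have hA1r : A1.1 ^ r = 1 := by
    have := pow_orderOf_eq_one A1
    rw [hA1] at this
    exact congrArg Subtype.val this
  have h0 : α • A1.1 + β • (1 : Matrix (Fin 2) (Fin 2) L) = 0 := by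
    have := congrArg (aeval A1.1) hdiv
    simp only [map_add, map_sub, map_mul, map_pow, aeval_X, aeval_C, map_one] at this
    rw [hA1r, hev A1.1 A1.2 rfl, zero_mul, add_zero, sub_self, Algebra.algebraMap_eq_smul_one,
      smul_mul_assoc, one_mul, Algebra.algebraMap_eq_smul_one] at this
    exact this.symm
  have hα : α = 0 := by
    by_contra hα
    -- `A1` is scalar
    have hsc : A1.1 = (-(α⁻¹ * β)) • (1 : Matrix (Fin 2) (Fin 2) L) := by
      have h5 := eq_neg_of_add_eq_zero_left h0
      calc A1.1 = α⁻¹ • (α • A1.1) := by rw [smul_smul, inv_mul_cancel₀ hα, one_smul]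
        _ = _ := by rw [h5, smul_neg, smul_smul, neg_smul]
    have hdet := A1.2
    rw [hsc, Matrix.det_smul, Matrix.det_one, mul_one, Fintype.card_fin] at hdet
    have h6 : A1 ^ 2 = 1 := by
      apply Subtype.ext
      change A1.1 ^ 2 = 1
      rw [hsc, _root_.smul_pow, one_pow, hdet, one_smul]
    have h7 := orderOf_dvd_of_pow_eq_one h6
    rw [hA1] at h7
    exact hr2 ((Nat.prime_dvd_prime_iff_eq hr Nat.prime_two).1 h7)
  have hβ : β = 0 := by
    rw [hα, zero_smul, zero_add] at h0
    have := congrFun (congrFun h0 0) 0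
    simpa using this
  have hfin : aeval A.1 (X ^ r - 1 : L[X]) = 0 := by
    rw [hdiv, hα, hβ]
    simp only [map_mul, map_zero, zero_mul, zero_add, add_zero]
    rw [hev A.1 A.2 hAtr, zero_mul]
  refine ⟨A, ?_, ?_, rfl⟩
  · apply Subtype.ext
    change A.1 ^ r = 1
    simp only [map_sub, map_pow, aeval_X, map_one] at hfin
    exact sub_eq_zero.1 hfin
  · intro hA
    have hτ2 : τ = 2 := by
      rw [← hAtr, hA]
      change (1 : Matrix (Fin 2) (Fin 2) L).trace = 2
      rw [Matrix.trace_one]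
      simp
    have h8 := cayley A1.1 A1.2
    rw [← hτ, hτ2] at h8
    have h9 : A1 ^ 3 = 1 := by
      apply Subtype.ext
      change A1.1 ^ 3 = 1
      have h31 : (3 : L) • A1.1 = 0 := by rw [h3, zero_smul]
      have h32 : (3 : L) • (1 : Matrix (Fin 2) (Fin 2) L) = 0 := by rw [h3, zero_smul]
      have e3 : A1.1 ^ 3 = (3 : L) • A1.1 - (3 : L) • (1 : Matrix (Fin 2) (Fin 2) L) + 1 := by
        rw [pow_succ, pow_two, h8, sub_mul, smul_mul_assoc, h8, one_mul, smul_sub, smul_smul]
        have e4 : ((2 : L) * 2) = 3 + 1 := by norm_num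
        rw [e4, add_smul, one_smul]
        have e5 : (2 : L) • (1 : Matrix (Fin 2) (Fin 2) L) = (3 : L) • 1 - 1 := by
          rw [show (3 : L) = 2 + 1 by norm_num, add_smul, one_smul]
          abel
        rw [e5]
        abel
      rw [e3, h31, h32, sub_zero, zero_add]
    have h10 := orderOf_dvd_of_pow_eq_one h9
    rw [hA1] at h10
    exact hr3 ((Nat.prime_dvd_prime_iff_eq hr Nat.prime_three).1 h10)

end SL2

end Cfsg.Agent.H418.SpK
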